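import Groth.Agent.CechTorsor.Basic
import Mathlib.CategoryTheory.Sites.Whiskering

/-! The boundary map for sheaves of homogeneous spaces. -/

set_option autoImplicit false
universe w v u

open CategoryTheory Opposite NonAbH1

namespace Groth.Agent.CechTorsorX.Boundary

open Groth.Agent.CechTorsor

variable {C : Type u} [Category.{v} C] {J : GrothendieckTopology C} [J.HasSheafCompose (forget GrpCat.{w})]
  {F G : Sheaf J GrpCat.{w}}

theorem set_glue (P : Sheaf J (Type w)) {V : C} (S : Sieve V) (hS : S ∈ J V)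
    (x : ∀ ⦃T : C⦄ (f : T ⟶ V), S f → P.obj.obj (op T))
    (hx : ∀ ⦃T T' : C⦄ (f : T ⟶ V) (hf : S f) (h : T' ⟶ T),
      P.obj.map h.op (x f hf) = x (h ≫ f) (S.downward_closed hf h)) :
    ∃ p : P.obj.obj (op V), ∀ ⦃T : C⦄ (f : T ⟶ V) (hf : S f), P.obj.map f.op p = x f hf := by
  have hc : Presieve.FamilyOfElements.Compatible (P := P.obj) (fun T f hf => x (T := T) f hf : Presieve.FamilyOfElements P.obj S.arrows) := by
    rw [Presieve.compatible_iff_sieveCompatible]
    intro T T' f h hf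
    exact (hx f hf h).symm
  obtain ⟨p, hp, -⟩ := ((isSheaf_iff_isSheaf_of_type _ _).1 P.property) S hS _ hc
  exact ⟨p, fun T f hf => hp f hf⟩

theorem map_comp_op (P : Sheaf J (Type w)) {U V W : C} (a : V ⟶ U) (h : W ⟶ V) (p : P.obj.obj (op U)) :
    P.obj.map h.op (P.obj.map a.op p) = P.obj.map (h ≫ a).op p := by
  rw [op_comp, Functor.map_comp_apply]

/-- An equivariant map bijective on sections is an isomorphism. -/
theorem nonempty_iso_of_bijective {P Q : GSheaf F} (f : P ⟶ Q)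
    (hf : ∀ U : Cᵒᵖ, Function.Bijective (f.hom.hom.app U)) : Nonempty (P ≅ Q) := by
  let e := fun U : Cᵒᵖ => Equiv.ofBijective _ (hf U)
  have hr : ∀ (U : Cᵒᵖ) (q : Q.P.obj.obj U), f.hom.hom.app U ((e U).symm q) = q := fun U q =>
    (e U).apply_symm_apply q
  let g : Q ⟶ P := ⟨⟨{ app := fun U => TypeCat.ofHom (e U).symm
                       naturality := fun U V k => by
                         refine ConcreteCategory.hom_ext _ _ fun q => (hf V).1 ?_
                         show f.hom.hom.app V ((e V).symm (Q.P.obj.map k q)) =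
                           f.hom.hom.app V (P.P.obj.map k ((e U).symm q))
                         rw [hr, NatTrans.naturality_apply f.hom.hom k, hr] }⟩,
    fun {U} a q => (hf U).1 (by
      show f.hom.hom.app U ((e U).symm (Q.smul a q)) = f.hom.hom.app U (P.smul a ((e U).symm q))
      rw [hr, f.map_smul, hr])⟩
  refine ⟨⟨f, g, ?_, ?_⟩⟩
  · apply GSheaf.hom_ext; apply Sheaf.hom_ext; ext U p
    exact (e U).symm_apply_apply p
  · apply GSheaf.hom_ext; apply Sheaf.hom_ext; ext U q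
    exact hr U q

theorem cl_eq_one_iff (T : Torsor F) : T.cl = 1 ↔ T.P.obj.sections.Nonempty := by
  constructor
  · intro h
    obtain ⟨e⟩ : Nonempty (T.toGSheaf ≅ (trivialTorsor F).toGSheaf) := by
      have h' := Quot.eq.1 (show Quot.mk (fun P Q : Torsor F => Nonempty (P.toGSheaf ≅ Q.toGSheaf)) T =
        Quot.mk _ (trivialTorsor F) from h)
      exact (Equivalence.eqvGen_iff ⟨fun P => ⟨Iso.refl _⟩, fun ⟨e⟩ => ⟨e.symm⟩, fun ⟨e⟩ ⟨e'⟩ => ⟨e ≪≫ e'⟩⟩).1 h'
    exact ⟨fun U => e.inv.hom.hom.app U (GSheaf.ofGrp (1 : F.obj.obj U)), fun {U V} k => by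
      rw [← NatTrans.naturality_apply e.inv.hom.hom k]
      exact congrArg _ (map_one (F.obj.map k).hom)⟩
  · rintro ⟨s, hs⟩
    refine Quot.sound ?_
    obtain ⟨e⟩ := nonempty_iso_of_bijective (P := GSheaf.trivial F) (Q := T.toGSheaf)
      ⟨⟨{ app := fun U => TypeCat.ofHom fun a => T.smul (GSheaf.toGrp a) (s U)
          naturality := fun U V k => by
            refine ConcreteCategory.hom_ext _ _ fun a => ?_
            show T.smul (F.obj.map k (GSheaf.toGrp a)) (s V) = T.P.obj.map k (T.smul (GSheaf.toGrp a) (s U))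
            rw [T.map_smul, hs k] }⟩,
        fun {U} a b => T.mul_smul a (GSheaf.toGrp b) (s U)⟩
      fun U => ⟨fun a b hab => by
          obtain ⟨c, -, hc⟩ := T.isTorsor.1 U (s U) (T.smul (GSheaf.toGrp a) (s U))
          exact ((hc _ rfl).trans (hc _ hab.symm).symm :),
        fun q => by
          obtain ⟨c, hc, -⟩ := T.isTorsor.1 U (s U) q
          exact ⟨GSheaf.ofGrp c, hc⟩⟩
    exact ⟨e.symm⟩

variable (u : F ⟶ G) {Q : GSheaf G} (π : GSheaf.trivial G ⟶ Q)

/-- The value of the quotient map on a group element. -/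
abbrev q {U : Cᵒᵖ} (g : G.obj.obj U) : Q.P.obj.obj U := π.hom.hom.app U (GSheaf.ofGrp g)

theorem q_mul {U : Cᵒᵖ} (a g : G.obj.obj U) : q π (a * g) = Q.smul a (q π g) :=
  π.map_smul a (GSheaf.ofGrp g)

theorem q_map {U V : Cᵒᵖ} (k : U ⟶ V) (g : G.obj.obj U) : q π (G.obj.map k g) = Q.P.obj.map k (q π g) :=
  NatTrans.naturality_apply π.hom.hom k (GSheaf.ofGrp g)

variable {u π}

theorem map_inv' {U : Cᵒᵖ} (f : F.obj.obj U) : u.hom.app U f⁻¹ = (u.hom.app U f)⁻¹ := map_inv (u.hom.app U).hom f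

theorem u_map {U V : Cᵒᵖ} (k : U ⟶ V) (f : F.obj.obj U) :
    u.hom.app V (F.obj.map k f) = G.obj.map k (u.hom.app U f) := NatTrans.naturality_apply u.hom k f

variable (hu : ∀ U : Cᵒᵖ, Function.Injective (u.hom.app U)) (hQ : GSheaf.IsQuotientBy u π)

include hQ in
theorem exists_fibre (c : Q.P.obj.sections) : ∃ T : GSheaf F, GSheaf.IsFibreOver u π c T := by
  let P : Cᵒᵖ ⥤ Type w :=
    { obj := fun U => { g : G.obj.obj U // q π g = c.1 U }
      map := fun {U V} k => TypeCat.ofHom fun g => ⟨G.obj.map k g.1, by rw [q_map, g.2, c.2 k]⟩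
      map_id := fun U => by
        refine ConcreteCategory.hom_ext _ _ fun g => Subtype.ext ?_
        show G.obj.map (𝟙 U) g.1 = g.1
        simp
      map_comp := fun {U V W} k l => by
        refine ConcreteCategory.hom_ext _ _ fun g => Subtype.ext ?_
        show G.obj.map (k ≫ l) g.1 = G.obj.map l (G.obj.map k g.1)
        simp }
  have hP : Presheaf.IsSheaf J P := by
    rw [isSheaf_iff_isSheaf_of_type]
    intro U S hS fam hc
    rw [Presieve.compatible_iff_sieveCompatible] at hc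
    obtain ⟨g, hg⟩ := group_glue (G := G) S hS (fun V a ha => (fam a ha).1)
      (fun V W a ha h => (congrArg Subtype.val (hc a h ha)).symm)
    refine ⟨⟨g, set_sep Q.P S hS fun V a ha => ?_⟩, fun V a ha => Subtype.ext (hg a ha), fun p hp =>
      Subtype.ext (group_sep S hS fun V a ha => (congrArg Subtype.val (hp a ha)).trans (hg a ha).symm)⟩
    rw [← q_map, hg a ha, (fam a ha).2, c.2 a.op]
  let T : GSheaf F :=
    { P := ⟨P, hP⟩
      smul := fun {U} f g => ⟨g.1 * (u.hom.app U f)⁻¹,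
        ((hQ.1 U g.1 _).2 ⟨f⁻¹, by rw [map_inv']⟩).symm.trans g.2⟩
      one_smul := fun {U} g => Subtype.ext (by simp)
      mul_smul := fun {U} f f' g => Subtype.ext (by simp [mul_assoc])
      map_smul := fun {U V} k f g => Subtype.ext (by
        show G.obj.map k (g.1 * (u.hom.app U f)⁻¹) = G.obj.map k g.1 * (u.hom.app V (F.obj.map k f))⁻¹
        rw [map_mul, map_inv, u_map]) }
  refine ⟨T, ⟨{ app := fun U => TypeCat.ofHom fun g => GSheaf.ofGrp g.1,
                 naturality := fun U V k => rfl }⟩, fun U g g' h => Subtype.ext h, fun U g => ⟨?_, fun h => ⟨⟨g, h⟩, rfl⟩⟩,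
    fun U f t => rfl⟩
  rintro ⟨t, rfl⟩
  exact t.2

section Fibre

variable {c : Q.P.obj.sections} {T : GSheaf F}

include hu hQ in
theorem isTorsor_of_fibre (hT : GSheaf.IsFibreOver u π c T) : T.IsTorsor := by
  obtain ⟨ι, hι, him, hsm⟩ := hT
  refine ⟨fun U t t' => ?_, fun U => ?_⟩
  · have h1 := (him U _).1 ⟨t, rfl⟩
    have h2 := (him U _).1 ⟨t', rfl⟩
    obtain ⟨f, hf⟩ := (hQ.1 U _ _).1 (h1.trans h2.symm)
    refine ⟨f⁻¹, hι U ?_, fun f' hf' => hu U ?_⟩
    · show GSheaf.toGrp (ι.hom.app U (T.smul f⁻¹ t)) = GSheaf.toGrp (ι.hom.app U t')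
      rw [hsm, map_inv', inv_inv, hf]
    · have := congrArg (fun x => GSheaf.toGrp (ι.hom.app U x)) hf'
      simp only [hsm] at this
      rw [hf] at this
      rw [map_inv', ← inv_inj, inv_inv]
      exact mul_left_cancel this
  · obtain ⟨S, hS, h⟩ := hQ.2 U (c.1 (op U))
    refine ⟨S, hS, fun V a ha => ?_⟩
    obtain ⟨g, hg⟩ := h a ha
    obtain ⟨t, -⟩ := (him (op V) g).2 (hg.trans (c.2 a.op))
    exact ⟨t⟩

include hu hQ in
/-- Left translation by a global section of `G` moves fibres. -/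
theorem nonempty_iso_of_translate {c' : Q.P.obj.sections} {T' : GSheaf F}
    (hT : GSheaf.IsFibreOver u π c T) (hT' : GSheaf.IsFibreOver u π c' T')
    (g : (GSheaf.uSh G).obj.sections) (hg : ∀ U : Cᵒᵖ, Q.smul (GSheaf.toGrp (g.1 U)) (c.1 U) = c'.1 U) :
    Nonempty (T ≅ T') := by
  obtain ⟨ι, hι, him, hsm⟩ := hT
  obtain ⟨ι', hι', him', hsm'⟩ := hT'
  have key : ∀ (U : Cᵒᵖ) (t : T.P.obj.obj U), ∃ t', GSheaf.toGrp (ι'.hom.app U t') =
      GSheaf.toGrp (g.1 U) * GSheaf.toGrp (ι.hom.app U t) := fun U t =>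
    (him' U _).2 (((q_mul π _ _).trans (congrArg (Q.smul _) ((him U _).1 ⟨t, rfl⟩))).trans (hg U))
  choose φ hφ using key
  refine nonempty_iso_of_bijective (P := T) (Q := T')
    ⟨⟨{ app := fun U => TypeCat.ofHom (φ U)
        naturality := fun U V k => by
          refine ConcreteCategory.hom_ext _ _ fun t => hι' V ?_
          show GSheaf.toGrp (ι'.hom.app V (φ V (T.P.obj.map k t))) =
            GSheaf.toGrp (ι'.hom.app V (T'.P.obj.map k (φ U t)))
          rw [hφ, NatTrans.naturality_apply ι.hom k, NatTrans.naturality_apply ι'.hom k]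
          show _ = G.obj.map k (GSheaf.toGrp (ι'.hom.app U (φ U t)))
          rw [hφ, map_mul]
          exact congrArg₂ (· * ·) (g.2 k).symm rfl }⟩,
      fun {U} f t => hι' U (by
        show GSheaf.toGrp (ι'.hom.app U (φ U (T.smul f t))) = GSheaf.toGrp (ι'.hom.app U (T'.smul f (φ U t)))
        rw [hφ, hsm, hsm', hφ, mul_assoc])⟩ fun U => ⟨fun t t' h => hι U ?_, fun s => ?_⟩
  · have h' : φ U t = φ U t' := h
    have e1 := hφ U t
    rw [h', hφ U t'] at e1
    exact (mul_left_cancel (G := G.obj.obj U) e1.symm :)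
  · obtain ⟨t, ht⟩ := (him U ((GSheaf.toGrp (g.1 U))⁻¹ * GSheaf.toGrp (ι'.hom.app U s))).2 (by
      show q π _ = _
      rw [q_mul, show q π (GSheaf.toGrp (ι'.hom.app U s)) = c'.1 U from (him' U _).1 ⟨s, rfl⟩, ← hg U,
        ← Q.mul_smul, inv_mul_cancel, Q.one_smul])
    refine ⟨t, hι' U ?_⟩
    show GSheaf.toGrp (ι'.hom.app U (φ U t)) = GSheaf.toGrp (ι'.hom.app U s)
    rw [hφ, ht, mul_inv_cancel_left]

include hu hQ in
theorem nonempty_iso_of_fibre {T' : GSheaf F} (hT : GSheaf.IsFibreOver u π c T)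
    (hT' : GSheaf.IsFibreOver u π c T') : Nonempty (T ≅ T') :=
  nonempty_iso_of_translate hu hQ hT hT'
    ⟨fun U => GSheaf.ofGrp (1 : G.obj.obj U), fun {U V} k => map_one (G.obj.map k).hom⟩ fun U => Q.one_smul _

include hu hQ in
theorem exists_translate_of_iso {c' : Q.P.obj.sections} {T' : GSheaf F}
    (hT : GSheaf.IsFibreOver u π c T) (hT' : GSheaf.IsFibreOver u π c' T') (e : T ≅ T') :
    ∃ g : (GSheaf.uSh G).obj.sections, ∀ U : Cᵒᵖ, Q.smul (GSheaf.toGrp (g.1 U)) (c.1 U) = c'.1 U := by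
  have htor := isTorsor_of_fibre hu hQ hT
  obtain ⟨ι, hι, him, hsm⟩ := hT
  obtain ⟨ι', hι', him', hsm'⟩ := hT'
  let val : ∀ {V : C}, T.P.obj.obj (op V) → G.obj.obj (op V) := fun {V} t =>
    GSheaf.toGrp (ι'.hom.app _ (e.hom.hom.hom.app _ t)) * (GSheaf.toGrp (ι.hom.app _ t))⁻¹
  have hval : ∀ {V : C} (t t' : T.P.obj.obj (op V)), val t = val t' := by
    intro V t t'
    obtain ⟨f, rfl, -⟩ := htor.1 (op V) t t'
    simp only [val, e.hom.map_smul, hsm, hsm']
    group
  have hmap : ∀ {V W : C} (h : W ⟶ V) (t : T.P.obj.obj (op V)),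
      G.obj.map h.op (val t) = val (T.P.obj.map h.op t) := by
    intro V W h t
    simp only [val, map_mul, map_inv, NatTrans.naturality_apply e.hom.hom.hom h.op,
      NatTrans.naturality_apply ι.hom h.op, NatTrans.naturality_apply ι'.hom h.op]
    rfl
  have key : ∀ U : C, ∃ g : G.obj.obj (op U), ∀ {V : C} (a : V ⟶ U) (t : T.P.obj.obj (op V)),
      G.obj.map a.op g = val t := by
    intro U
    obtain ⟨S, hS, hne⟩ := htor.2 U
    obtain ⟨g, hg⟩ := group_glue (G := G) S hS (fun V a ha => val (hne a ha).some)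
      (fun V W a ha h => by rw [hmap]; exact hval _ _)
    refine ⟨g, fun {V} a t => group_sep _ (J.pullback_stable a hS) fun W h hh => ?_⟩
    rw [map_map, hg _ hh, hmap]
    exact hval _ _
  choose g hg using key
  refine ⟨⟨fun U => GSheaf.ofGrp (g U.unop), fun {U U'} k => ?_⟩, fun U => ?_⟩
  · obtain ⟨S, hS, hne⟩ := htor.2 U'.unop
    refine group_sep (G := G) S hS fun V a ha => ?_
    show G.obj.map a.op (G.obj.map k.unop.op (g U.unop)) = G.obj.map a.op (g U'.unop)
    rw [map_map, hg _ _ (hne a ha).some, hg _ _ (hne a ha).some]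
  · obtain ⟨S, hS, hne⟩ := htor.2 U.unop
    refine set_sep Q.P S hS fun V a ha => ?_
    have t := (hne a ha).some
    show Q.P.obj.map a.op (Q.smul (g U.unop) (c.1 (op U.unop))) = Q.P.obj.map a.op (c'.1 (op U.unop))
    rw [Q.map_smul, hg _ a t, c.2, c'.2, ← (him _ _).1 ⟨t, rfl⟩, ← q_mul, inv_mul_cancel_right]
    exact (him' _ _).1 ⟨_, rfl⟩

theorem cl_eq_one_iff_lifts (T : Torsor F) (hT : GSheaf.IsFibreOver u π c T.toGSheaf) :
    T.cl = 1 ↔ ∃ g : (GSheaf.uSh G).obj.sections, ∀ U : Cᵒᵖ, π.hom.hom.app U (g.1 U) = c.1 U := by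
  obtain ⟨ι, hι, him, -⟩ := hT
  rw [cl_eq_one_iff]
  constructor
  · rintro ⟨s, hs⟩
    exact ⟨⟨fun U => ι.hom.app U (s U), fun {U V} k => by
      rw [← NatTrans.naturality_apply ι.hom k, hs k]⟩, fun U => (him U _).1 ⟨s U, rfl⟩⟩
  · rintro ⟨g, hg⟩
    choose s hs using fun U => (him U (GSheaf.toGrp (g.1 U))).2 (hg U)
    refine ⟨s, fun {U V} k => hι V ?_⟩
    show ι.hom.app V (T.P.obj.map k (s U)) = ι.hom.app V (s V)
    rw [NatTrans.naturality_apply ι.hom k]
    have h1 : ι.hom.app U (s U) = g.1 U := hs U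
    have h2 : ι.hom.app V (s V) = g.1 V := hs V
    rw [h1, h2, g.2 k]

end Fibre

include hu hQ in
theorem pushforward_trivial_iff (T : Torsor F) :
    GSheaf.IsPushforwardAlong u T.toGSheaf (GSheaf.trivial G) ↔
      ∃ c : Q.P.obj.sections, GSheaf.IsFibreOver u π c T.toGSheaf := by
  constructor
  · rintro ⟨φ, hφ⟩
    let j : ∀ {U : Cᵒᵖ}, T.P.obj.obj U → G.obj.obj U := fun {U} t => (GSheaf.toGrp (φ.hom.app U t))⁻¹
    have hj : ∀ {U : Cᵒᵖ} (f : F.obj.obj U) (t : T.P.obj.obj U),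
        j (T.smul f t) = j t * (u.hom.app U f)⁻¹ := fun {U} f t => by
      simp only [j, hφ]
      show (u.hom.app U f * GSheaf.toGrp (φ.hom.app U t))⁻¹ = _
      rw [mul_inv_rev]
    have hjm : ∀ {U V : Cᵒᵖ} (k : U ⟶ V) (t : T.P.obj.obj U), j (T.P.obj.map k t) = G.obj.map k (j t) :=
      fun {U V} k t => by
        simp only [j]
        rw [map_inv, NatTrans.naturality_apply φ.hom k]
        rfl
    have hjinj : ∀ {U : Cᵒᵖ} (t t' : T.P.obj.obj U), j t = j t' → t = t' := by
      intro U t t' h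
      obtain ⟨f, hf, -⟩ := T.isTorsor.1 U t t'
      rw [← hf, hj] at h
      have : u.hom.app U f = u.hom.app U 1 := by
        rw [map_one]
        exact inv_eq_one.1 (left_eq_mul.1 h)
      rw [← hf, hu U this, T.one_smul]
    have hval : ∀ {U : Cᵒᵖ} (t t' : T.P.obj.obj U), q π (j t) = q π (j t') := by
      intro U t t'
      obtain ⟨f, hf, -⟩ := T.isTorsor.1 U t t'
      exact (hQ.1 U _ _).2 ⟨f⁻¹, by rw [← hf, hj, map_inv']⟩
    have key : ∀ U : C, ∃ c : Q.P.obj.obj (op U), ∀ {V : C} (a : V ⟶ U) (t : T.P.obj.obj (op V)),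
        Q.P.obj.map a.op c = q π (j t) := by
      intro U
      obtain ⟨S, hS, hne⟩ := T.isTorsor.2 U
      obtain ⟨c, hc⟩ := set_glue Q.P S hS (fun V a ha => q π (j (hne a ha).some))
        (fun V W a ha h => by rw [← q_map, ← hjm]; exact hval _ _)
      refine ⟨c, fun {V} a t => set_sep Q.P _ (J.pullback_stable a hS) fun W h hh => ?_⟩
      rw [map_comp_op, hc _ hh, ← q_map, ← hjm]
      exact hval _ _
    choose c hc using key
    have hcs : ∀ {U U' : Cᵒᵖ} (k : U ⟶ U'), Q.P.obj.map k (c U.unop) = c U'.unop := fun {U U'} k => by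
      obtain ⟨S, hS, hne⟩ := T.isTorsor.2 U'.unop
      refine set_sep Q.P S hS fun V a ha => ?_
      show Q.P.obj.map a.op (Q.P.obj.map k.unop.op (c U.unop)) = _
      rw [map_comp_op, hc _ _ (hne a ha).some, hc _ _ (hne a ha).some]
    refine ⟨⟨fun U => c U.unop, hcs⟩, ⟨{
        app := fun U => TypeCat.ofHom fun t => GSheaf.ofGrp (j t)
        naturality := fun U V k => ConcreteCategory.hom_ext _ _ fun t => hjm k t }⟩,
      fun U t t' h => hjinj t t' h, fun U g => ⟨?_, fun hg => ?_⟩, fun U f t => hj f t⟩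
    · rintro ⟨t, rfl⟩
      have := hc U.unop (𝟙 _) t
      rw [op_id, Functor.map_id_apply] at this
      exact this.symm
    · obtain ⟨S, hS, hne⟩ := T.isTorsor.2 U.unop
      have hloc : ∀ ⦃V : C⦄ (a : V ⟶ U.unop), S a → ∃ t : T.P.obj.obj (op V), j t = G.obj.map a.op g := by
        intro V a ha
        let t := (hne a ha).some
        have h1 : q π (j t) = q π (G.obj.map a.op g) := by
          rw [← hc U.unop a t, q_map]
          exact congrArg _ (hg : q π g = c U.unop).symm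
        obtain ⟨f, hf⟩ := (hQ.1 (op V) _ _).1 h1
        exact ⟨T.smul f⁻¹ t, by rw [hj, map_inv', inv_inv]; exact hf.symm⟩
      choose τ hτ using hloc
      obtain ⟨t, ht⟩ := set_glue T.P S hS τ (fun V W a ha h => hjinj _ _ (by
        rw [hjm, hτ, hτ, map_map]))
      refine ⟨t, group_sep (G := G) S hS fun V a ha => ?_⟩
      show G.obj.map a.op (j t) = _
      rw [← hjm, ← hτ a ha]
      exact congrArg j (ht a ha)
  · rintro ⟨c, ι, -, -, hsm⟩
    refine ⟨⟨{ app := fun U => TypeCat.ofHom fun t => GSheaf.ofGrp (GSheaf.toGrp (ι.hom.app U t))⁻¹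
               naturality := fun U V k => ConcreteCategory.hom_ext _ _ fun t => by
                 show (GSheaf.toGrp (ι.hom.app V (T.P.obj.map k t)))⁻¹ = G.obj.map k (GSheaf.toGrp (ι.hom.app U t))⁻¹
                 rw [map_inv, NatTrans.naturality_apply ι.hom k]
                 rfl }⟩, fun U f t => ?_⟩
    show (GSheaf.toGrp (ι.hom.app U (T.smul f t)))⁻¹ = u.hom.app U f * (GSheaf.toGrp (ι.hom.app U t))⁻¹
    rw [hsm, mul_inv_rev, inv_inv]

end Groth.Agent.CechTorsorX.Boundary
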