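import Groth.Agent.EtStalk.Normal
import Groth.Agent.EtFound.Descent
import Groth.Prelude.Def_AlgGrp
import Groth.Prelude.Def_Pi1
import Mathlib.RingTheory.Unramified.Finite
import Mathlib.RingTheory.Unramified.Field
import Mathlib.AlgebraicGeometry.Morphisms.QuasiFinite
import Mathlib.AlgebraicGeometry.Morphisms.UniversallyOpen
import Mathlib.AlgebraicGeometry.ResidueField
import Mathlib.AlgebraicGeometry.Artinian

/-! Generic sections of specializing separated étale schemes over normal integral schemes extend. -/

set_option autoImplicit false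
set_option backward.isDefEq.respectTransparency false
set_option backward.isDefEq.respectTransparency.types false
set_option linter.style.haveILetI false
universe u

open CategoryTheory CategoryTheory.Limits AlgebraicGeometry TopologicalSpace

namespace Groth.Agent.CechTorsorX.EtaleNormal

/-- Étale morphisms are locally quasi-finite. -/
theorem locallyQuasiFinite {T V : Scheme.{u}} (g : T ⟶ V) [Etale g] : LocallyQuasiFinite g := by
  rw [HasRingHomProperty.iff_appLE (P := @LocallyQuasiFinite)]
  intro U W e
  have h1 := HasRingHomProperty.appLE @FormallyUnramified g inferInstance U W e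
  have h2 := HasRingHomProperty.appLE @LocallyOfFiniteType g inferInstance U W e
  algebraize [(g.appLE U.1 W.1 e).hom]
  have : Algebra.QuasiFinite Γ(V, U) Γ(T, W) := inferInstance
  exact this

/-- The generic points of two specialisations of the same point of an étale scheme over a normal scheme agree. -/
theorem eq_of_specializes {E X : Scheme.{u}} [IsIntegral X] (g : E ⟶ X) [Etale g]
    (hX : Pi1.IsNormalScheme X) {e e' w : E} (he : g e = genericPoint X) (he' : g e' = genericPoint X)
    (h : e ⤳ w) (h' : e' ⤳ w) : e = e' := by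
  haveI : IsDomain (E.presheaf.stalk w) :=
    ((EtStalk.normal_stalk_iff g w).2 (hX (g w))).1
  haveI := locallyQuasiFinite g
  obtain ⟨q, hq⟩ : e ∈ Set.range (E.fromSpecStalk w) := by rwa [Scheme.range_fromSpecStalk]
  obtain ⟨q', hq'⟩ : e' ∈ Set.range (E.fromSpecStalk w) := by rwa [Scheme.range_fromSpecStalk]
  have hmax : ∀ (a : E) (r : Spec (E.presheaf.stalk w)), g a = genericPoint X → E.fromSpecStalk w r = a →
      E.fromSpecStalk w (genericPoint (Spec (E.presheaf.stalk w))) = a := by
    intro a r ha hr
    set b := E.fromSpecStalk w (genericPoint (Spec (E.presheaf.stalk w)))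
    have hba : b ⤳ a := hr ▸ (genericPoint_specializes r).map (E.fromSpecStalk w).continuous
    have hb : g b = genericPoint X :=
      (((hba.map g.continuous).trans (ha ▸ specializes_rfl)).antisymm (genericPoint_specializes _)).eq
    haveI : DiscreteTopology ↥(g ⁻¹' {genericPoint X}) :=
      isDiscrete_iff_discreteTopology.1 (g.isDiscrete_preimage_singleton _)
    exact congrArg Subtype.val
      ((Topology.IsInducing.subtypeVal.specializes_iff (x := (⟨b, hb⟩ : ↥(g ⁻¹' {genericPoint X})))
        (y := ⟨a, ha⟩)).1 hba).eq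
  exact (hmax e q he hq).symm.trans (hmax e' q' he' hq')

/-- The specializations of a point of the generic fibre of an étale scheme over a normal scheme form an open set. -/
theorem isOpen_closure {E X : Scheme.{u}} [IsIntegral X] (g : E ⟶ X) [Etale g] (hX : Pi1.IsNormalScheme X)
    {e : E} (he : g e = genericPoint X) : IsOpen (closure {e}) := by
  haveI := locallyQuasiFinite g
  refine isOpen_iff_forall_mem_open.2 fun z hz => ?_
  obtain ⟨U, hU, hzU, -⟩ := exists_isAffineOpen_mem_and_subset (X := X) (x := g z) (U := ⊤) trivial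
  obtain ⟨W, hW, hzW, hWU⟩ := exists_isAffineOpen_mem_and_subset (X := E) (x := z) (U := g ⁻¹ᵁ U) hzU
  let F : Set E := g ⁻¹' {genericPoint X} ∩ W
  have hF : F.Finite := by
    have hdisc : _root_.IsDiscrete F := (g.isDiscrete_preimage_singleton _).mono Set.inter_subset_left
    have hcpt : IsCompact F := by
      haveI : IsAffine (W : Scheme.{u}) := hW
      haveI : IsAffine (U : Scheme.{u}) := hU
      let h := g.resLE U W hWU
      haveI : LocallyQuasiFinite (h ≫ U.ι) := by
        rw [show h ≫ U.ι = W.ι ≫ g from g.resLE_comp_ι hWU]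
        infer_instance
      haveI : LocallyQuasiFinite h := LocallyQuasiFinite.of_comp h U.ι
      have hηU : genericPoint X ∈ U := ((genericPoint_spec X).mem_open_set_iff U.isOpen).mpr ⟨g z, trivial, hzU⟩
      have hfib : F = W.ι '' (h ⁻¹' {⟨genericPoint X, hηU⟩}) := by
        ext w
        refine ⟨fun ⟨hw, hwW⟩ => ⟨⟨w, hwW⟩, Subtype.ext ?_, rfl⟩, ?_⟩
        · exact (congr($(g.resLE_comp_ι hWU) ⟨w, hwW⟩) : _).trans hw
        · rintro ⟨v, hv, rfl⟩
          exact ⟨(congr($(g.resLE_comp_ι hWU) v) : _).symm.trans (congrArg Subtype.val hv), v.2⟩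
      rw [hfib]
      haveI : QuasiCompact h := inferInstance
      exact (h.isCompact_preimage_singleton _).image W.ι.continuous
    exact hcpt.finite hdisc
  refine ⟨(W : Set E) ∩ (⋃ f ∈ F \ {e}, closure {f})ᶜ, ?_, W.isOpen.inter ?_, hzW, ?_⟩
  · rintro w ⟨hwW, hw⟩
    obtain ⟨f, hfw, hf⟩ := Flat.generalizingMap g (genericPoint_specializes (g w))
    by_contra hcl
    refine hw (Set.mem_biUnion (x := f) ⟨⟨hf, hfw.mem_open W.isOpen hwW⟩, fun hfe => hcl ?_⟩ hfw.mem_closure)
    rw [Set.mem_singleton_iff] at hfe
    exact hfe ▸ hfw.mem_closure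
  · exact ((hF.subset Set.sdiff_subset).isClosed_biUnion fun _ _ => isClosed_closure).isOpen_compl
  · simp only [Set.mem_compl_iff, Set.mem_iUnion, not_exists]
    rintro f ⟨⟨hf, -⟩, hfe⟩ hzf
    exact hfe (eq_of_specializes g hX hf he (specializes_iff_mem_closure.2 hzf) (specializes_iff_mem_closure.2 hz))

/-- The residue field of a point maps to the residue field of its image. -/
theorem exists_fac {E X : Scheme.{u}} (g : E ⟶ X) (e : E) (y : X) (h : g e = y) :
    ∃ π : Spec (E.residueField e) ⟶ Spec (X.residueField y),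
      π ≫ X.fromSpecResidueField y = E.fromSpecResidueField e ≫ g := by
  subst h
  exact ⟨_, g.SpecMap_residueFieldMap_fromSpecResidueField e⟩

/-- Field-valued points at a rational point factor through it. -/
theorem eq_of_image {E X : Scheme.{u}} (g : E ⟶ X) {y : X}
    (x : Spec (X.residueField y) ⟶ E) (hx : x ≫ g = X.fromSpecResidueField y)
    {L : Type u} [Field L] (a : Spec (CommRingCat.of L) ⟶ E)
    (ha : a (IsLocalRing.closedPoint L) = x (IsLocalRing.closedPoint (X.residueField y))) :
    ∃ c : Spec (CommRingCat.of L) ⟶ Spec (X.residueField y), c ≫ x = a := by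
  set e := x (IsLocalRing.closedPoint (X.residueField y)) with he
  obtain ⟨φ, hφ⟩ : ∃ φ : Spec (CommRingCat.of L) ⟶ Spec (E.residueField e), φ ≫ E.fromSpecResidueField e = a := by
    rw [← ha]
    exact ⟨_, Scheme.descResidueField_stalkClosedPointTo_fromSpecResidueField L E a⟩
  obtain ⟨ψ, hψ⟩ : ∃ ψ : Spec (X.residueField y) ⟶ Spec (E.residueField e), ψ ≫ E.fromSpecResidueField e = x :=
    ⟨_, Scheme.descResidueField_stalkClosedPointTo_fromSpecResidueField (X.residueField y) E x⟩
  obtain ⟨π, hπ⟩ := exists_fac g e y (by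
    rw [he, ← Scheme.Hom.comp_apply, hx]
    exact Scheme.fromSpecResidueField_apply _ _)
  refine ⟨φ ≫ π, ?_⟩
  have h1 : ψ ≫ π = 𝟙 _ := by
    rw [← cancel_mono (X.fromSpecResidueField y), Category.assoc, hπ, ← Category.assoc, hψ, hx, Category.id_comp]
  have h2 : π ≫ ψ = 𝟙 _ := by
    obtain ⟨α, rfl⟩ := Spec.map_surjective ψ
    obtain ⟨β, rfl⟩ := Spec.map_surjective π
    rw [← Spec.map_comp, ← Spec.map_id] at h1 ⊢
    refine congrArg Spec.map ?_
    have h1' := Spec.map_injective h1
    ext z
    exact α.hom.injective (congrArg (fun k => (ConcreteCategory.hom k) (α z)) h1')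
  rw [← hψ, ← Category.assoc, Category.assoc φ, h2, Category.comp_id, hφ]

/-- Generic sections of specializing separated étale schemes over normal integral schemes extend. -/
theorem exists_section {E X : Scheme.{u}} [IsIntegral X] (g : E ⟶ X) [Etale g] [IsSeparated g]
    (hX : Pi1.IsNormalScheme X) (hsp : SpecializingMap g)
    (x : Spec (X.residueField (genericPoint X)) ⟶ E) (hx : x ≫ g = X.fromSpecResidueField (genericPoint X)) :
    ∃ σ : X ⟶ E, σ ≫ g = 𝟙 X ∧ X.fromSpecResidueField (genericPoint X) ≫ σ = x := by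
  set j := X.fromSpecResidueField (genericPoint X)
  set e := x (IsLocalRing.closedPoint (X.residueField (genericPoint X))) with he
  have hge : g e = genericPoint X := by
    rw [he, ← Scheme.Hom.comp_apply, hx]
    exact Scheme.fromSpecResidueField_apply _ _
  let Z : E.Opens := ⟨closure {e}, isOpen_closure g hX hge⟩
  let g₀ : (Z : Scheme.{u}) ⟶ X := Z.ι ≫ g
  have hgen : ∀ w : (Z : Scheme.{u}), g₀ w = genericPoint X → Z.ι w = e := fun w hw =>
    eq_of_specializes g hX hw hge specializes_rfl (specializes_iff_mem_closure.2 w.2)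
  haveI : Surjective g₀ := ⟨fun y => by
    have hst : StableUnderSpecialization (g '' closure {e}) := hsp.stableUnderSpecialization_image isClosed_closure.stableUnderSpecialization
    obtain ⟨w, hw, rfl⟩ := hst (genericPoint_specializes y) ⟨e, subset_closure rfl, hge⟩
    exact ⟨⟨w, hw⟩, rfl⟩⟩
  have hxZ : Set.range x ⊆ Set.range Z.ι := by
    rintro _ ⟨t, rfl⟩
    rw [Scheme.Opens.range_ι, Subsingleton.elim t (IsLocalRing.closedPoint (X.residueField (genericPoint X)))]
    exact subset_closure rfl
  let x₀ := IsOpenImmersion.lift Z.ι x hxZ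
  have hx₀ : x₀ ≫ Z.ι = x := IsOpenImmersion.lift_fac _ _ _
  have hx₀g : x₀ ≫ g₀ = j := by rw [← Category.assoc, hx₀, hx]
  haveI : Mono g₀ := by
    haveI : Surjective (pullback.diagonal g₀) := ⟨fun z => by
      obtain ⟨w, hwz, hw⟩ := Flat.generalizingMap (pullback.fst g₀ g₀ ≫ g₀) (genericPoint_specializes _)
      have hcl : IsClosed (Set.range (pullback.diagonal g₀)) :=
        (pullback.diagonal g₀).isClosedEmbedding.isClosed_range
      refine hcl.stableUnderSpecialization hwz ?_
      let P := pullback g₀ g₀
      let a := P.fromSpecResidueField w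
      have h1 : (a ≫ pullback.fst g₀ g₀ ≫ Z.ι) (IsLocalRing.closedPoint (P.residueField w)) = e := by
        rw [Scheme.Hom.comp_apply, Scheme.fromSpecResidueField_apply, Scheme.Hom.comp_apply]
        exact hgen _ hw
      have h2 : (a ≫ pullback.snd g₀ g₀ ≫ Z.ι) (IsLocalRing.closedPoint (P.residueField w)) = e := by
        rw [Scheme.Hom.comp_apply, Scheme.fromSpecResidueField_apply, Scheme.Hom.comp_apply]
        refine hgen _ ?_
        rw [← Scheme.Hom.comp_apply, ← pullback.condition]
        exact hw
      obtain ⟨c, hc⟩ := eq_of_image g x hx _ h1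
      obtain ⟨c', hc'⟩ := eq_of_image g x hx _ h2
      have hcc : c = c' := by
        have e1 : ∀ (q : pullback g₀ g₀ ⟶ (Z : Scheme.{u})) (d : Spec (P.residueField w) ⟶ Spec (X.residueField (genericPoint X))),
            d ≫ x = a ≫ q ≫ Z.ι → d ≫ j = a ≫ q ≫ g₀ := fun q d hd => by
          rw [← hx]
          refine (Category.assoc _ _ _).symm.trans ((congrArg (· ≫ g) hd).trans ?_)
          simp only [Category.assoc]
          rfl
        rw [← cancel_mono j]
        exact (e1 _ c hc).trans ((congrArg (a ≫ ·) pullback.condition).trans (e1 _ c' hc').symm)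
      have hab : a ≫ pullback.fst g₀ g₀ = a ≫ pullback.snd g₀ g₀ := by
        rw [← cancel_mono Z.ι, Category.assoc, Category.assoc]
        exact (hc.symm.trans (congrArg (· ≫ x) hcc)).trans hc'
      have : a = (a ≫ pullback.fst g₀ g₀) ≫ pullback.diagonal g₀ := by
        apply pullback.hom_ext <;> simp [hab]
      refine ⟨(a ≫ pullback.fst g₀ g₀) (IsLocalRing.closedPoint _), ?_⟩
      rw [← Scheme.Hom.comp_apply, ← this]
      exact Scheme.fromSpecResidueField_apply _ _⟩
    haveI : IsIso (pullback.diagonal g₀) := by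
      exact isIso_of_isOpenImmersion_of_opensRange_eq_top _ (TopologicalSpace.Opens.ext
        (Set.range_eq_univ.2 (pullback.diagonal g₀).surjective))
    exact pullback.isIso_diagonal_iff g₀ |>.1 inferInstance
  haveI : IsOpenImmersion g₀ := IsOpenImmersion.of_flat_of_mono g₀
  haveI : IsIso g₀ := by
    exact isIso_of_isOpenImmersion_of_opensRange_eq_top _ (TopologicalSpace.Opens.ext
      (Set.range_eq_univ.2 g₀.surjective))
  refine ⟨inv g₀ ≫ Z.ι, (Category.assoc _ _ _).trans (IsIso.inv_hom_id g₀), ?_⟩
  rw [← hx₀, ← Category.assoc]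
  congr 1
  rw [IsIso.comp_inv_eq, hx₀g]

end Groth.Agent.CechTorsorX.EtaleNormal
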