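import Groth.Agent.CechTorsorX.EtaleNormal
import Groth.Agent.SchTorsor.Props
import Groth.Agent.GrpSchLib.CharZeroPts

/-! Torsors under étale group schemes over a field are specializing and separated. -/

set_option autoImplicit false
set_option backward.isDefEq.respectTransparency false
set_option backward.isDefEq.respectTransparency.types false
set_option linter.style.haveILetI false
universe u

open CategoryTheory CategoryTheory.Limits MonoidalCategory CartesianMonoidalCategory MonObj GrpObj AlgebraicGeometry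

namespace Groth.Agent.CechTorsorX.EtaleTorsor

variable {k : Type u} [Field k]

/-- Base changes of étale schemes over a field are specializing. -/
theorem specializing_pullback_snd {P : Scheme.{u}} (f : P ⟶ Spec (CommRingCat.of k)) [Etale f]
    {T : Scheme.{u}} (t : T ⟶ Spec (CommRingCat.of k)) : SpecializingMap (pullback.snd f t) := by
  haveI := EtaleNormal.locallyQuasiFinite f
  haveI : DiscreteTopology P := by
    have h := isDiscrete_iff_discreteTopology.1 (f.isDiscrete_preimage_singleton default)
    have : f ⁻¹' {default} = (Set.univ : Set P) := Set.eq_univ_of_forall fun p => Subsingleton.elim _ _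
    rw [this] at h
    exact (Homeomorph.Set.univ P).discreteTopology
  intro z y hy
  let p := pullback.fst f t z
  haveI : IsClosedImmersion (P.fromSpecResidueField p) :=
    .of_isPreimmersion _ (isClosed_discrete _)
  haveI : IsFinite (P.fromSpecResidueField p ≫ f) := by
    haveI := EtaleNormal.locallyQuasiFinite f
    haveI : LocallyOfFiniteType (P.fromSpecResidueField p ≫ f) := inferInstance
    exact AlgebraicGeometry.IsFinite.of_locallyQuasiFinite _
  let i : pullback (P.fromSpecResidueField p ≫ f) t ⟶ pullback f t :=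
    pullback.map _ _ _ _ (P.fromSpecResidueField p) (𝟙 T) (𝟙 _) (by rw [Category.comp_id]) (by simp)
  have hz : z ∈ Set.range i := by
    rw [Scheme.Pullback.range_map]
    exact ⟨⟨IsLocalRing.closedPoint _, Scheme.fromSpecResidueField_apply _ _⟩, ⟨_, rfl⟩⟩
  obtain ⟨z', hz'⟩ := hz
  have hsnd : i ≫ pullback.snd f t = pullback.snd (P.fromSpecResidueField p ≫ f) t := by
    simp [i]
  have hy' : pullback.snd (P.fromSpecResidueField p ≫ f) t z' ⤳ y := by
    rw [← hsnd, Scheme.Hom.comp_apply, hz']
    exact hy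
  obtain ⟨w, hw, rfl⟩ := (pullback.snd (P.fromSpecResidueField p ≫ f) t).isClosedMap.specializingMap hy'
  exact ⟨i w, hz' ▸ hw.map i.continuous, by rw [← Scheme.Hom.comp_apply, hsnd]⟩

variable (G : Over (Spec (CommRingCat.of k))) [GrpObj G] [Etale G.hom]
  {S : Scheme.{u}} (s : S ⟶ Spec (CommRingCat.of k)) {X : Over S} {a : AlgGrp.Action (Red.bc s G) X}

/-- An fpqc torsor under an étale group over a field is étale. -/
theorem etale (ha : NonAbH1.IsTorsorFor Scheme.fpqcPrecoverage a) : Etale X.hom :=
  SchTorsor.torsor_property @Etale ha (inferInstanceAs (Etale (pullback.snd G.hom s)))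

/-- An fpqc torsor under a group over a field is separated. -/
theorem isSeparated (ha : NonAbH1.IsTorsorFor Scheme.fpqcPrecoverage a) : IsSeparated X.hom := by
  haveI := GrpSchLib.CharZeroPts.isSeparated_grp G
  haveI : MorphismProperty.DescendsAlong @IsSeparated (@Surjective ⊓ @Flat ⊓ @QuasiCompact : MorphismProperty Scheme.{u}) :=
    EtFound.fpqc_isSeparated
  exact SchTorsor.torsor_property @IsSeparated ha (inferInstanceAs (IsSeparated (pullback.snd G.hom s)))

/-- An fpqc torsor under an étale group over a field is specializing. -/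
theorem specializing (ha : NonAbH1.IsTorsorFor Scheme.fpqcPrecoverage a) : SpecializingMap X.hom := by
  intro e y hy
  change X.hom e ⤳ y at hy
  obtain ⟨U, hU, hyU, -⟩ := exists_isAffineOpen_mem_and_subset (X := S) (x := y) (U := ⊤) trivial
  haveI : IsAffine (U : Scheme.{u}) := hU
  obtain ⟨Z, p, hps, hpf, hpq, σ, hσ⟩ := SchTorsor.exists_single ha.2 U.ι
  haveI := hpf
  obtain ⟨z, hz⟩ := hps.surj ⟨y, hyU⟩
  let T : Over S := Over.mk (p ≫ U.ι)
  have hzy : T.hom z = y := by
    show (p ≫ U.ι) z = y
    rw [Scheme.Hom.comp_apply, hz]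
    rfl
  haveI : Flat T.hom := inferInstanceAs (Flat (p ≫ U.ι))
  obtain ⟨z', hz'z, hz'⟩ := Flat.generalizingMap T.hom (hzy ▸ hy : X.hom e ⤳ T.hom z)
  let sT : T ⟶ X := Over.homMk σ hσ
  haveI := SchTorsor.isIso_of_section ha.1 sT
  let θ := lift (((Red.bc s G) ◁ sT) ≫ a.act) (snd (Red.bc s G) T)
  haveI : IsIso θ.left := inferInstanceAs (IsIso ((Over.forget S).map θ))
  obtain ⟨w, hw1, hw2⟩ := Scheme.Pullback.exists_preimage_pullback (f := X.hom) (g := T.hom) e z' hz'.symm
  obtain ⟨w', rfl⟩ := θ.left.surjective w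
  let b : (Red.bc s G ⊗ T).left ⟶ pullback G.hom (T.hom ≫ s) := (pullbackLeftPullbackSndIso G.hom s T.hom).hom
  have hb : b ≫ pullback.snd G.hom (T.hom ≫ s) = (snd (Red.bc s G) T).left := pullbackLeftPullbackSndIso_hom_snd ..
  have hθ : θ.left ≫ (snd X T).left = (snd (Red.bc s G) T).left := by
    rw [← Over.comp_left, lift_snd]
  have hspec : pullback.snd G.hom (T.hom ≫ s) (b w') ⤳ z := by
    rw [← Scheme.Hom.comp_apply, hb, ← hθ, Scheme.Hom.comp_apply]
    exact (hw2 ▸ hz'z :)
  obtain ⟨v, hv, hvz⟩ := specializing_pullback_snd G.hom (T.hom ≫ s) hspec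
  obtain ⟨v', rfl⟩ : v ∈ Set.range b := (b.homeomorph.surjective v)
  have hv' : w' ⤳ v' := b.homeomorph.isInducing.specializes_iff.1 hv
  refine ⟨(fst X T).left (θ.left v'), ?_, ?_⟩
  · exact (hw1 ▸ (hv'.map θ.left.continuous).map (fst X T).left.continuous :)
  · rw [← hzy, ← hvz, ← Scheme.Hom.comp_apply b, hb, ← hθ, Scheme.Hom.comp_apply θ.left]
    rw [← Scheme.Hom.comp_apply _ X.hom, ← Scheme.Hom.comp_apply _ T.hom]
    exact congrArg (fun q : (X ⊗ T).left ⟶ S => q (θ.left v')) ((Over.w (fst X T)).trans (Over.w (snd X T)).symm)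

end Groth.Agent.CechTorsorX.EtaleTorsor
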