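import Groth.Agent.SchTorsor.Props
import Groth.Agent.GrpSchLib.Kunneth
import Mathlib

/-! Torsors under finite connected group schemes over a field acquire points after a fixed Frobenius twist. -/

set_option autoImplicit false
set_option backward.isDefEq.respectTransparency false
set_option backward.isDefEq.respectTransparency.types false
set_option linter.style.haveILetI false
universe u

open CategoryTheory CategoryTheory.Limits MonoidalCategory CartesianMonoidalCategory MonObj GrpObj AlgebraicGeometry
open TensorProduct

namespace Groth.Agent.CechTorsorX.FrobSection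

open Groth.Agent.GrpSchLib Groth.Agent.GrpSchLib.Kunneth

variable {K : Type u} [Field K] {G X : Over (Spec (CommRingCat.of K))} [GrpObj G]

/-- Cancelling a surjection from a universally injective composite. -/
theorem universallyInjective_of_comp {A B C : Scheme.{u}} (s : A ⟶ B) (f : B ⟶ C) [Surjective s]
    [UniversallyInjective (s ≫ f)] : UniversallyInjective f := by
  rw [UniversallyInjective.iff_diagonal]
  let m : pullback (s ≫ f) (s ≫ f) ⟶ pullback f f := pullback.map _ _ _ _ s s (𝟙 _) (by simp) (by simp)
  haveI : Surjective m := ⟨fun z => by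
    have : z ∈ Set.range m := by
      rw [Scheme.Pullback.range_map]
      exact ⟨s.surjective _, s.surjective _⟩
    exact this⟩
  haveI := (UniversallyInjective.iff_diagonal (s ≫ f)).1 inferInstance
  have h : pullback.diagonal (s ≫ f) ≫ m = s ≫ pullback.diagonal f := by
    apply pullback.hom_ext <;> simp [m]
  haveI : Surjective (s ≫ pullback.diagonal f) := h ▸ inferInstance
  exact Surjective.of_comp s (pullback.diagonal f)

/-- A connected finite scheme over a field is a point. -/
theorem subsingleton_of_connected [IsFinite G.hom] [ConnectedSpace G.left] : Subsingleton G.left := by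
  haveI : DiscreteTopology G.left := by
    have h := isDiscrete_iff_discreteTopology.1 (G.hom.isDiscrete_preimage_singleton default)
    have : G.hom ⁻¹' {default} = (Set.univ : Set G.left) := Set.eq_univ_of_forall fun p => Subsingleton.elim _ _
    rw [this] at h
    exact (Homeomorph.Set.univ G.left).discreteTopology
  exact PreconnectedSpace.trivial_of_discrete

/-- A connected finite group scheme over a field is radicial. -/
theorem universallyInjective [IsFinite G.hom] [ConnectedSpace G.left] : UniversallyInjective G.hom := by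
  haveI := subsingleton_of_connected (G := G)
  haveI : Surjective η[G].left := ⟨fun x => ⟨(default : Spec (CommRingCat.of K)), Subsingleton.elim _ _⟩⟩
  haveI : IsIso (η[G].left ≫ G.hom) := by
    rw [Over.w η[G]]
    show IsIso (𝟙 (Spec (CommRingCat.of K)))
    infer_instance
  exact universallyInjective_of_comp η[G].left G.hom

theorem module_finite [IsFinite X.hom] : Module.Finite K (Fn X) := by
  refine RingHom.finite_algebraMap.1 ?_
  show (str X).Finite
  exact RingHom.Finite.comp X.hom.finite_appTop
    (RingHom.Finite.of_surjective _ (ConcreteCategory.bijective_of_isIso (Scheme.ΓSpecIso (CommRingCat.of K)).inv).2)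

/-- A finite torsor has the rank of the group. -/
theorem finrank_eq (a : AlgGrp.Action G X) (ha : NonAbH1.IsPseudoTorsorSch a) [IsFinite G.hom] [IsFinite X.hom]
    [Nonempty X.left] : Module.finrank K (Fn X) = Module.finrank K (Fn G) := by
  haveI := module_finite (X := X)
  haveI := module_finite (X := G)
  haveI : IsIso (lift a.act (snd G X)) := ha
  let e := asIso (lift a.act (snd G X))
  let E : Fn (X ⊗ X) ≃ₗ[K] Fn (G ⊗ X) :=
    LinearEquiv.ofBijective (ev e.hom).toLinearMap ⟨fun u v h => by
      have h2 := congrArg (ev e.inv) h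
      change ev e.inv (ev e.hom u) = ev e.inv (ev e.hom v) at h2
      rwa [ev_ev, ev_ev, e.inv_hom_id, ev_id, ev_id] at h2, fun v => ⟨ev e.inv v, by
      show ev e.hom (ev e.inv v) = v
      rw [ev_ev, e.hom_inv_id, ev_id]⟩⟩
  have h := ((LinearEquiv.ofBijective (toProd X X).toLinearMap (toProd_bijective X X)).trans
    (E.trans (LinearEquiv.ofBijective (toProd G X).toLinearMap (toProd_bijective G X)).symm)).finrank_eq
  rw [Module.finrank_tensorProduct, Module.finrank_tensorProduct] at h
  haveI : Nontrivial (Fn X) := by
    haveI : IsAffine X.left := isAffine_of_isAffineHom X.hom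
    haveI : Nonempty (PrimeSpectrum (Fn X)) := ⟨X.left.isoSpec.hom (Classical.arbitrary _)⟩
    exact PrimeSpectrum.nonempty_iff_nontrivial.1 inferInstance
  exact Nat.eq_of_mul_eq_mul_right Module.finrank_pos h

/-- Radicial field extensions of bounded degree have bounded exponent. -/
theorem pow_mem_range (p : ℕ) [ExpChar K p] {L : Type u} [Field L] [Algebra K L] [FiniteDimensional K L]
    [IsPurelyInseparable K L] (n : ℕ) (hn : Module.finrank K L ≤ n) (y : L) : y ^ p ^ n ∈ (algebraMap K L).range := by
  obtain ⟨m, c, hc⟩ := (minpoly.natSepDegree_eq_one_iff_eq_X_pow_sub_C p).1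
    ((minpoly.natSepDegree_eq_one_iff_pow_mem p).2 (IsPurelyInseparable.pow_mem K p y))
  have hy : y ^ p ^ m = algebraMap K L c := by
    have h := minpoly.aeval K y
    rw [hc] at h
    simpa [sub_eq_zero] using h
  rcases ‹ExpChar K p› with _ | hp
  · rw [one_pow, pow_one] at hy ⊢
    exact ⟨c, hy.symm⟩
  have hdeg : (minpoly K y).natDegree = p ^ m := by rw [hc, Polynomial.natDegree_X_pow_sub_C]
  have hmn : m ≤ n :=
    ((Nat.lt_pow_self hp.one_lt).le.trans (hdeg.symm.le.trans (minpoly.natDegree_le y))).trans hn
  refine ⟨c ^ p ^ (n - m), ?_⟩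
  rw [map_pow, ← hy, ← pow_mul, ← pow_add, Nat.add_sub_cancel' hmn]

/-- The bounded Frobenius twist splits all torsors. -/
theorem hasSectionOver (p : ℕ) [ExpChar K p] [IsFinite G.hom] [ConnectedSpace G.left] (a : AlgGrp.Action G X)
    (ha : NonAbH1.IsTorsorFor Scheme.fpqcPrecoverage a) :
    NonAbH1.HasSectionOver X
      (Spec.map (CommRingCat.ofHom (iterateFrobenius K p (Module.finrank K (Fn G))))) := by
  haveI := universallyInjective (G := G)
  haveI : MorphismProperty.DescendsAlong @IsFinite (@Surjective ⊓ @Flat ⊓ @QuasiCompact : MorphismProperty Scheme.{u}) :=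
    EtFound.fpqc_isFinite
  haveI : IsFinite X.hom := SchTorsor.torsor_property @IsFinite ha inferInstance
  haveI : UniversallyInjective X.hom := SchTorsor.torsor_property @UniversallyInjective ha inferInstance
  haveI := SchTorsor.surjective_hom ha
  haveI : Nonempty X.left := ⟨(X.hom.surjective default).choose⟩
  haveI : IsAffine X.left := isAffine_of_isAffineHom X.hom
  haveI := module_finite (X := X)
  haveI : Nontrivial (Fn X) := by
    haveI : Nonempty (PrimeSpectrum (Fn X)) := ⟨X.left.isoSpec.hom (Classical.arbitrary _)⟩
    exact PrimeSpectrum.nonempty_iff_nontrivial.1 inferInstance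
  obtain ⟨M, hM⟩ := Ideal.exists_maximal (Fn X)
  letI : Field (Fn X ⧸ M) := Ideal.Quotient.field M
  let κ := Fn X ⧸ M
  haveI : FiniteDimensional K κ := Module.Finite.quotient K M
  have hd : Module.finrank K κ ≤ Module.finrank K (Fn G) := by
    rw [← finrank_eq a ha.1]
    exact (Ideal.Quotient.mkₐ K M).toLinearMap.finrank_le_finrank_of_surjective Ideal.Quotient.mk_surjective
  have hstr : X.left.isoSpec.inv ≫ X.hom = Spec.map (CommRingCat.ofHom (algebraMap K (Fn X))) := by
    rw [Iso.inv_comp_eq]
    show X.hom = X.left.toSpecΓ ≫ Spec.map ((Scheme.ΓSpecIso (CommRingCat.of K)).inv ≫ X.hom.appTop)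
    rw [Spec.map_comp, ← Scheme.toSpecΓ_naturality_assoc, toSpecΓ_SpecMap_ΓSpecIso_inv, Category.comp_id]
  haveI : IsPurelyInseparable K κ := by
    rw [isPurelyInseparable_iff_subsingleton_emb]
    refine ⟨fun σ τ => AlgHom.ext fun x => ?_⟩
    obtain ⟨x, rfl⟩ := Ideal.Quotient.mk_surjective x
    let g : (κ →ₐ[K] AlgebraicClosure κ) → (Spec (CommRingCat.of (AlgebraicClosure κ)) ⟶ X.left) := fun h =>
      Spec.map (CommRingCat.ofHom (h.comp (Ideal.Quotient.mkₐ K M)).toRingHom) ≫ X.left.isoSpec.inv
    have hg : ∀ h, g h ≫ X.hom = Spec.map (CommRingCat.ofHom (algebraMap K (AlgebraicClosure κ))) := fun h => by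
      rw [Category.assoc, hstr, ← Spec.map_comp, ← CommRingCat.ofHom_comp]
      congr 2
      exact (h.comp (Ideal.Quotient.mkₐ K M)).comp_algebraMap
    have h12 : UniversallyInjective X.hom ↔
        ∀ (L : Type u) [Field L], Function.Injective (fun g : Spec (CommRingCat.of L) ⟶ X.left ↦ g ≫ X.hom) :=
      (tfae_universallyInjective X.hom).out 0 1
    have e := h12.1 inferInstance (AlgebraicClosure κ)
      ((hg σ).trans (hg τ).symm)
    have e' := Spec.map_injective ((cancel_mono _).1 e)
    exact congr($(e') x)
  haveI : ExpChar κ p := expChar_of_injective_ringHom (algebraMap K κ).injective p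
  have hinj : Function.Injective (algebraMap K κ) := (algebraMap K κ).injective
  choose ψ hψ using pow_mem_range (L := κ) p _ hd
  let ψ' : κ →+* K :=
    { toFun := ψ
      map_one' := hinj (by rw [hψ, one_pow, map_one])
      map_mul' := fun y z => hinj (by rw [map_mul, hψ, hψ, hψ, mul_pow])
      map_zero' := hinj (by rw [hψ, map_zero, zero_pow (expChar_pow_pos κ p _).ne'])
      map_add' := fun y z => hinj (by rw [map_add, hψ, hψ, hψ, add_pow_expChar_pow]) }
  refine ⟨Spec.map (CommRingCat.ofHom (ψ'.comp (Ideal.Quotient.mk M))) ≫ X.left.isoSpec.inv, ?_⟩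
  rw [Category.assoc, hstr, ← Spec.map_comp, ← CommRingCat.ofHom_comp]
  congr 2
  ext c
  refine hinj ((hψ _).trans ?_)
  rw [iterateFrobenius_def, map_pow]
  rfl

end Groth.Agent.CechTorsorX.FrobSection
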