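import Groth.Agent.GmH1Lib.Hilbert90
import Groth.Agent.DescLib.Amitsur
import Mathlib.LinearAlgebra.TensorProduct.Pi
import Mathlib.LinearAlgebra.Matrix.NonsingularInverse
import Mathlib.LinearAlgebra.Matrix.ToLin
import Mathlib.RingTheory.Flat.Basic
import Mathlib.RingTheory.Spectrum.Prime.Topology
import Mathlib.RingTheory.RingHom.Flat

/-! Hilbert 90 for `GL_n` and `𝔾_a` and faithfully flat ring maps, Zariski locally on the base. -/

set_option autoImplicit false
set_option backward.isDefEq.respectTransparency false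
set_option backward.isDefEq.respectTransparency.types false
universe u

open TensorProduct Matrix

namespace Groth.Agent.CechTorsorX.GLCocycle

open Groth.Agent.GmH1Lib.Hilbert90

variable {R A : Type u} [CommRing R] [CommRing A] [Algebra R A]

/-- An additive cocycle is a coboundary. -/
theorem exists_add [Module.FaithfullyFlat R A] (g : A ⊗[R] A) (hc : p02 R A g = p01 R A g + p12 R A g) :
    ∃ b : A, b ⊗ₜ[R] (1 : A) - 1 ⊗ₜ b = g := by
  let d : A →ₗ[R] A ⊗[R] A := (Algebra.TensorProduct.includeLeft : A →ₐ[R] A ⊗[R] A).toLinearMap -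
    (Algebra.TensorProduct.includeRight : A →ₐ[R] A ⊗[R] A).toLinearMap
  have hd : ∀ w : A ⊗[R] A, d.lTensor A w = p01 R A w - p02 R A w := fun w => by
    induction w using TensorProduct.induction_on with
    | zero => simp
    | add x y hx hy => simp only [map_add, hx, hy]; abel
    | tmul b a => simp [d, tmul_sub]
  obtain ⟨b, hb⟩ : g ∈ LinearMap.range d := DescLib.mem_range_of_one_tmul_mem (A := A) d g ⟨-g, by
    rw [hd, map_neg, map_neg, hc]
    show _ = p12 R A g
    abel⟩
  exact ⟨b, hb⟩

variable {n : ℕ}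

/-- The left inclusion. -/
abbrev iL (R A : Type u) [CommRing R] [CommRing A] [Algebra R A] : A →ₐ[R] A ⊗[R] A :=
  Algebra.TensorProduct.includeLeft

/-- The right inclusion. -/
abbrev iR (R A : Type u) [CommRing R] [CommRing A] [Algebra R A] : A →ₐ[R] A ⊗[R] A :=
  Algebra.TensorProduct.includeRight

/-- `v ↦ v ⊗ 1 - u (1 ⊗ v)`. -/
noncomputable def δ (u : Matrix (Fin n) (Fin n) (A ⊗[R] A)) : (Fin n → A) →ₗ[R] (Fin n → A ⊗[R] A) where
  toFun v := (iL R A) ∘ v - u *ᵥ ((iR R A) ∘ v)
  map_add' v w := by
    ext i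
    simp [Matrix.mulVec, dotProduct, mul_add, Finset.sum_add_distrib, add_tmul, tmul_add]
    abel
  map_smul' r v := by
    ext i
    simp [Matrix.mulVec, dotProduct, Finset.smul_sum, smul_sub, ← smul_tmul', tmul_smul, mul_smul_comm]

theorem δ_apply (u : Matrix (Fin n) (Fin n) (A ⊗[R] A)) (v : Fin n → A) (i : Fin n) :
    δ u v i = v i ⊗ₜ 1 - ∑ j, u i j * (1 ⊗ₜ v j) := rfl

theorem lTensor_δ (u : Matrix (Fin n) (Fin n) (A ⊗[R] A)) (z : A ⊗[R] (Fin n → A)) (i : Fin n) :
    TensorProduct.piRight R R A _ ((δ u).lTensor A z) i = p01 R A (TensorProduct.piRight R R A _ z i) -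
      ∑ j, p12 R A (u i j) * p02 R A (TensorProduct.piRight R R A _ z j) := by
  induction z using TensorProduct.induction_on with
  | zero => simp
  | add x y hx hy =>
    simp only [map_add, Pi.add_apply, hx, hy, mul_add, Finset.sum_add_distrib]
    abel
  | tmul b v => simp [δ_apply, tmul_sub, tmul_sum]

variable [Module.FaithfullyFlat R A]

theorem isQuotientMap_comap : Topology.IsQuotientMap (PrimeSpectrum.comap (algebraMap R A)) :=
  PrimeSpectrum.isQuotientMap_of_generalizingMap PrimeSpectrum.comap_surjective_of_faithfullyFlat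
    (RingHom.Flat.generalizingMap_comap (RingHom.flat_algebraMap_iff.2 inferInstance))

/-- Hilbert 90 for `GL_n`, Zariski locally on the base. -/
theorem exists_matrix (u : (Matrix (Fin n) (Fin n) (A ⊗[R] A))ˣ)
    (hc : (p02 R A).mapMatrix (u : Matrix (Fin n) (Fin n) (A ⊗[R] A)) =
      (p01 R A).mapMatrix (u : Matrix (Fin n) (Fin n) (A ⊗[R] A)) * (p12 R A).mapMatrix (u : Matrix (Fin n) (Fin n) (A ⊗[R] A)))
    (p : PrimeSpectrum R) :
    ∃ f : R, f ∉ p.asIdeal ∧ ∃ B : Matrix (Fin n) (Fin n) A,
      (iL R A).mapMatrix B = (u : Matrix (Fin n) (Fin n) (A ⊗[R] A)) * (iR R A).mapMatrix B ∧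
      ∃ (k : ℕ) (b : A), B.det * b = algebraMap R A f ^ k := by
  obtain ⟨M, Mi, hMi, hMi'⟩ := u
  simp only at hc ⊢
  -- the diagonal of the cocycle is trivial
  let μ : A ⊗[R] A →ₐ[R] A := Algebra.TensorProduct.lmul' R
  let μ3 : A ⊗[R] (A ⊗[R] A) →ₐ[R] A := Algebra.TensorProduct.productMap (AlgHom.id R A) μ
  have hdiag : μ.mapMatrix M = 1 := by
    have h := congrArg μ3.mapMatrix hc
    rw [map_mul] at h
    have e : ∀ q : A ⊗[R] A →ₐ[R] A ⊗[R] (A ⊗[R] A), μ3.comp q = μ →
        μ3.mapMatrix (q.mapMatrix M) = μ.mapMatrix M := fun q hq => by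
      rw [← hq]; ext i j; rfl
    rw [e _ (Algebra.TensorProduct.ext' fun a b => by simp [μ3, μ]),
      e _ (Algebra.TensorProduct.ext' fun a b => by simp [μ3, μ]),
      e _ (Algebra.TensorProduct.ext' fun a b => by simp [μ3, μ])] at h
    have hu : IsUnit (μ.mapMatrix M) := ⟨⟨_, μ.mapMatrix Mi, by rw [← map_mul, hMi, map_one],
      by rw [← map_mul, hMi', map_one]⟩, rfl⟩
    exact hu.mul_left_cancel (by rw [mul_one]; exact h.symm)
  have hdiag' : μ.mapMatrix Mi = 1 := by
    have h := congrArg μ.mapMatrix hMi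
    rwa [map_mul, map_one, hdiag, one_mul] at h
  -- the inverse cocycle
  have hcinv : (p01 R A).mapMatrix Mi = (p12 R A).mapMatrix M * (p02 R A).mapMatrix Mi := by
    calc (p01 R A).mapMatrix Mi
        = (p01 R A).mapMatrix Mi * ((p02 R A).mapMatrix M * (p02 R A).mapMatrix Mi) := by
          rw [← map_mul, hMi, map_one, mul_one]
      _ = (p01 R A).mapMatrix Mi * (p01 R A).mapMatrix M * ((p12 R A).mapMatrix M * (p02 R A).mapMatrix Mi) := by
          rw [hc]; simp only [mul_assoc]
      _ = _ := by rw [← map_mul, hMi', map_one, one_mul]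
  -- the invariant vectors span
  let N : Submodule R (Fin n → A) := LinearMap.ker (δ M)
  have hspan : ∀ a : Fin n → A, a ∈ Submodule.span A (N : Set (Fin n → A)) := by
    intro a
    let w : Fin n → A ⊗[R] A := Mi *ᵥ ((iL R A) ∘ a)
    have hw : (δ M).lTensor A ((TensorProduct.piRight R R A _).symm w) = 0 := by
      apply (TensorProduct.piRight R R A _).injective
      funext i
      rw [lTensor_δ, LinearEquiv.apply_symm_apply, map_zero, Pi.zero_apply, sub_eq_zero]
      have hL : ∀ (q : A ⊗[R] A →ₐ[R] A ⊗[R] (A ⊗[R] A)) (j : Fin n), q (w j) =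
          ∑ k, q (Mi j k) * q (iL R A (a k)) := fun q j => by
        simp [w, Matrix.mulVec, dotProduct, map_sum]
      simp only [hL]
      have h := congrFun₂ hcinv i
      simp only [AlgHom.mapMatrix_apply, Matrix.map_apply, Matrix.mul_apply] at h
      calc ∑ k, p01 R A (Mi i k) * p01 R A (iL R A (a k))
          = ∑ k, ∑ j, p12 R A (M i j) * p02 R A (Mi j k) * p02 R A (iL R A (a k)) := by
            refine Finset.sum_congr rfl fun k _ => ?_
            rw [h k, Finset.sum_mul]
            exact Finset.sum_congr rfl fun j _ => by simp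
        _ = _ := by
            rw [Finset.sum_comm]
            exact Finset.sum_congr rfl fun j _ => by rw [Finset.mul_sum]; simp [mul_assoc]
    obtain ⟨z, hz⟩ := (Module.Flat.lTensor_exact A (LinearMap.exact_subtype_ker_map (δ M)) _).1 hw
    let ev : A ⊗[R] (Fin n → A) →ₗ[R] (Fin n → A) :=
      TensorProduct.lift (LinearMap.mk₂ R (fun (b : A) (v : Fin n → A) => b • v)
        (fun b c v => add_smul b c v) (fun r b v => smul_assoc r b v) (fun b v w => smul_add b v w)
        (fun r b v => smul_comm b r v))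
    have hev : ∀ y, ∀ i, ev y i = μ (TensorProduct.piRight R R A _ y i) := fun y i => by
      induction y using TensorProduct.induction_on with
      | zero => simp
      | add x y hx hy => simp [hx, hy]
      | tmul b v => simp [ev, μ]
    have hmem : ∀ t, ev (N.subtype.lTensor A t) ∈ Submodule.span A (N : Set (Fin n → A)) := fun t => by
      induction t using TensorProduct.induction_on with
      | zero => simp
      | add x y hx hy => rw [map_add, map_add]; exact Submodule.add_mem _ hx hy
      | tmul b v =>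
        simp only [LinearMap.lTensor_tmul, ev, TensorProduct.lift.tmul, LinearMap.mk₂_apply]
        exact Submodule.smul_mem _ _ (Submodule.subset_span v.2)
    have ha : ev (N.subtype.lTensor A z) = a := by
      funext i
      rw [hev, hz, LinearEquiv.apply_symm_apply]
      have h := congrFun₂ hdiag' i
      simp only [AlgHom.mapMatrix_apply, Matrix.map_apply] at h
      simp [w, Matrix.mulVec, dotProduct, map_sum, h, Matrix.one_apply, μ]
    exact ha ▸ hmem z
  -- choose invariant vectors forming a basis in one fibre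
  obtain ⟨q, rfl⟩ := PrimeSpectrum.comap_surjective_of_faithfullyFlat (B := A) p
  let L := q.asIdeal.ResidueField
  let ρ : (Fin n → A) → (Fin n → L) := fun v => (algebraMap A L) ∘ v
  have htop : Submodule.span L (ρ '' (N : Set (Fin n → A))) = ⊤ := by
    refine top_unique ((Pi.basisFun L (Fin n)).span_eq.ge.trans (Submodule.span_le.2 ?_))
    rintro _ ⟨i, rfl⟩
    have h : ∀ a ∈ Submodule.span A (N : Set (Fin n → A)), ρ a ∈ Submodule.span L (ρ '' (N : Set (Fin n → A))) := by
      intro a ha
      induction ha using Submodule.span_induction with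
      | mem x hx => exact Submodule.subset_span ⟨x, hx, rfl⟩
      | zero => convert Submodule.zero_mem _; ext; simp [ρ]
      | add x y _ _ hx hy => convert Submodule.add_mem _ hx hy using 1; ext; simp [ρ]
      | smul b x _ hx => convert Submodule.smul_mem _ (algebraMap A L b) hx using 1; ext; simp [ρ]
    have e : Pi.basisFun L (Fin n) i = ρ (Pi.single i 1) := by
      ext j
      simp [ρ, Pi.basisFun_apply, Pi.single_apply, apply_ite (algebraMap A L)]
    rw [SetLike.mem_coe, e]
    exact h _ (hspan (Pi.single i 1))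
  obtain ⟨s, hs, hsspan, hli⟩ := exists_linearIndependent L (ρ '' (N : Set (Fin n → A)))
  rw [htop] at hsspan
  let bs := Module.Basis.mk hli (by simp [hsspan])
  let e := bs.indexEquiv (Pi.basisFun L (Fin n))
  choose v hvN hv using fun i : Fin n => hs (e.symm i).2
  let B : Matrix (Fin n) (Fin n) A := Matrix.of fun i j => v j i
  have hB : (iL R A).mapMatrix B = M * (iR R A).mapMatrix B := by
    ext i j
    have h := congrFun (LinearMap.mem_ker.1 (hvN j)) i
    rw [δ_apply, Pi.zero_apply, sub_eq_zero] at h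
    simpa [B, Matrix.mul_apply] using h
  have hdet : B.det ∉ q.asIdeal := by
    have hli' : LinearIndependent L (B.map (algebraMap A L)).col := by
      have : (B.map (algebraMap A L)).col = fun j => ((e.symm j : s) : Fin n → L) := by
        funext j
        rw [← hv j]
        rfl
      rw [this]
      exact hli.comp _ e.symm.injective
    rw [Matrix.linearIndependent_cols_iff_isUnit, Matrix.isUnit_iff_isUnit_det] at hli'
    intro hmem
    refine hli'.ne_zero ?_
    show Matrix.det ((algebraMap A L).mapMatrix B) = 0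
    rw [← RingHom.map_det]
    exact Ideal.algebraMap_residueField_eq_zero.2 hmem
  have hd : φ M.det B.det = 0 := by
    rw [φ_apply, sub_eq_zero]
    have h := congrArg Matrix.det hB
    rw [Matrix.det_mul, ← AlgHom.map_det, ← AlgHom.map_det] at h
    exact h
  have hu : IsUnit M.det := (Matrix.isUnit_iff_isUnit_det _).1 ⟨⟨M, Mi, hMi, hMi'⟩, rfl⟩
  let D := PrimeSpectrum.basicOpen B.det
  have hsat : PrimeSpectrum.comap (algebraMap R A) ⁻¹' (PrimeSpectrum.comap (algebraMap R A) '' (D : Set (PrimeSpectrum A))) = D := by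
    refine Set.Subset.antisymm (fun x hx => ?_) (Set.subset_preimage_image _ _)
    obtain ⟨y, hy, hxy⟩ := hx
    exact fun hmem => hy (mem_iff_of_comap_eq M.det hu hd x y hxy.symm hmem)
  have ho : IsOpen (PrimeSpectrum.comap (algebraMap R A) '' (D : Set (PrimeSpectrum A))) := by
    rw [← (isQuotientMap_comap (R := R) (A := A)).isOpen_preimage, hsat]
    exact D.2
  obtain ⟨_, ⟨f, rfl⟩, hpf, hsub⟩ :=
    PrimeSpectrum.isTopologicalBasis_basic_opens.exists_subset_of_mem_open
      (Set.mem_image_of_mem _ (show q ∈ D from hdet)) ho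
  refine ⟨f, hpf, B, hB, ?_⟩
  have hrad : algebraMap R A f ∈ (Ideal.span {B.det}).radical := by
    rw [← PrimeSpectrum.vanishingIdeal_zeroLocus_eq_radical, PrimeSpectrum.mem_vanishingIdeal]
    intro z hz
    by_contra hzf
    have hzD : z ∈ PrimeSpectrum.comap (algebraMap R A) ⁻¹' (PrimeSpectrum.comap (algebraMap R A) '' (D : Set (PrimeSpectrum A))) :=
      hsub (show z.comap (algebraMap R A) ∈ PrimeSpectrum.basicOpen f from hzf)
    rw [hsat] at hzD
    exact hzD (hz (Ideal.subset_span rfl))
  obtain ⟨k, hk⟩ := hrad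
  obtain ⟨b, hb⟩ := Ideal.mem_span_singleton'.1 hk
  exact ⟨k, b, by rw [mul_comm, hb]⟩

end Groth.Agent.CechTorsorX.GLCocycle
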