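import Groth.Agent.CechTorsorX.GaGmH90
import Groth.Agent.GrpSchLib.GLnHom

/-! Hilbert 90, Zariski locally on the base, for `GL_n` over a field. -/

set_option autoImplicit false
set_option backward.isDefEq.respectTransparency false
set_option backward.isDefEq.respectTransparency.types false
universe u

open CategoryTheory CategoryTheory.Limits MonoidalCategory CartesianMonoidalCategory MonObj GrpObj AlgebraicGeometry
open TensorProduct

noncomputable section

namespace Groth.Agent.CechTorsorX.GLH90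

open Groth.Agent.CechTorsorX.ZariskiTriv Groth.Agent.CechTorsorX.GLCocycle Groth.Agent.GmH1Lib.Hilbert90
open Groth.Agent.GrpSchLib Groth.Agent.GrpSchLib.Kunneth

variable {k : Type u} [Field k] {n : ℕ}

set_option quotPrecheck false in
local notation "σZ" => IsTerminal.from specULiftZIsTerminal (Spec (CommRingCat.of k))

/-- Every point of `GL_n` is the point of an invertible matrix of functions. -/
theorem matPt_surjective {T : Over (Spec (CommRingCat.of k))} (x : T ⟶ FrB.GLn n (Spec (CommRingCat.of k))) :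
    ∃ (M : Matrix (Fin n) (Fin n) (Fn T)) (hM : IsUnit M), matPt M hM = x := by
  let y := ((Over.mapPullbackAdj σZ).homEquiv _ _).symm x
  let ψ : CommRingCat.of (CoordGrp.GLn n (ULift.{u} ℤ)) ⟶ Γ(T.left, ⊤) :=
    ((ΓSpec.adjunction.homEquiv T.left (Opposite.op (CommRingCat.of (CoordGrp.GLn n (ULift.{u} ℤ))))).symm y.left).unop
  let φ : CoordGrp.GLn n (ULift.{u} ℤ) →ₐ[(ULift.{u} ℤ)] Fn T := AlgHom.mk ψ.hom (fun c => by
    obtain ⟨z⟩ := c
    exact RingHom.congr_fun (RingHom.ext_int ((ψ.hom.comp (algebraMap (ULift.{u} ℤ) _)).comp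
      ULift.ringEquiv.symm.toRingHom) ((algebraMap (ULift.{u} ℤ) (Fn T)).comp ULift.ringEquiv.symm.toRingHom)) z)
  have hφ : preGL φ = y := by
    refine Over.OverMorphism.ext ?_
    show T.left.toSpecΓ ≫ Spec.map ψ = y.left
    have := (ΓSpec.adjunction.homEquiv T.left _).apply_symm_apply y.left
    rw [Adjunction.homEquiv_unit] at this
    exact this
  have hM : IsUnit (GLnDiag.mat φ) := (Matrix.isUnit_iff_isUnit_det _).2 (IsUnit.of_mul_eq_one _ (GLnDiag.det_mat φ))
  refine ⟨GLnDiag.mat φ, hM, ?_⟩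
  have : matHom (GLnDiag.mat φ) hM = φ := GLnDiag.ext_mat (mat_matHom _ hM)
  rw [matPt, this, toGL, hφ, Equiv.apply_symm_apply]

variable {R B C : Type u} [CommRing R] [CommRing B] [CommRing C] [Algebra R B] [Algebra R C]
  {j : Spec (CommRingCat.of R) ⟶ Spec (CommRingCat.of k)}

/-- A matrix over an algebra as a matrix of functions on its spectrum. -/
def toFn (M : Matrix (Fin n) (Fin n) B) : Matrix (Fin n) (Fin n) (Fn (sp j B)) :=
  M.map (Scheme.ΓSpecIso (CommRingCat.of B)).inv.hom

theorem isUnit_toFn {M : Matrix (Fin n) (Fin n) B} (hM : IsUnit M) : IsUnit (toFn (j := j) M) :=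
  hM.map (Scheme.ΓSpecIso (CommRingCat.of B)).inv.hom.mapMatrix

theorem toFn_injective : Function.Injective (toFn (j := j) (B := B) (n := n)) := fun M N h => by
  ext i i'
  exact (Scheme.ΓSpecIso (CommRingCat.of B)).commRingCatIsoToRingEquiv.symm.injective (congrFun₂ h i i')

theorem toFn_mul (M N : Matrix (Fin n) (Fin n) B) : toFn (j := j) (M * N) = toFn M * toFn N :=
  map_mul (Scheme.ΓSpecIso (CommRingCat.of B)).inv.hom.mapMatrix M N

theorem toFn_map (h : B →ₐ[R] C) (M : Matrix (Fin n) (Fin n) B) :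
    (toFn (j := j) M).map (ev (sh h)) = toFn (h.mapMatrix M) := by
  ext i i'
  exact congrArg (fun ψ => (ConcreteCategory.hom ψ) (M i i'))
    (Scheme.ΓSpecIso_inv_naturality (CommRingCat.ofHom h.toRingHom)).symm

theorem exists_toFn (x : sp j B ⟶ FrB.GLn n (Spec (CommRingCat.of k))) :
    ∃ (M : Matrix (Fin n) (Fin n) B) (hM : IsUnit M), matPt (toFn M) (isUnit_toFn hM) = x := by
  obtain ⟨N, hN, rfl⟩ := matPt_surjective x
  let e := (Scheme.ΓSpecIso (CommRingCat.of B)).commRingCatIsoToRingEquiv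
  refine ⟨N.map e, hN.map e.toRingHom.mapMatrix, matPt_congr ?_⟩
  ext i i'
  exact e.symm_apply_apply _

/-- Hilbert 90 for the general linear group. -/
theorem localH90_gl : LocalH90 (FrB.GLn n (Spec (CommRingCat.of k))) := by
  intro R A _ _ _ _ j g hc p
  obtain ⟨M, hM, rfl⟩ := exists_toFn g
  rw [comp_matPt, comp_matPt, comp_matPt, matPt_mul] at hc
  have hc' := matPt_injective hc
  rw [toFn_map, toFn_map, toFn_map, ← toFn_mul] at hc'
  obtain ⟨f, hf, N, hN, k', b₀, hb₀⟩ := exists_matrix hM.unit (toFn_injective hc') p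
  let ι₀ := cι R A f
  have hu : IsUnit (ι₀.mapMatrix N) := by
    rw [Matrix.isUnit_iff_isUnit_det, ← AlgHom.map_det]
    have h1 : IsUnit (ι₀ (N.det * b₀)) := by
      rw [hb₀, map_pow, AlgHom.commutes]
      refine IsUnit.pow k' ?_
      rw [IsScalarTower.algebraMap_apply R (Localization.Away f) (CC R A f)]
      exact (IsLocalization.Away.algebraMap_isUnit f).map _
    rw [map_mul] at h1
    exact isUnit_of_mul_isUnit_left h1
  refine ⟨f, hf, matPt (toFn (ι₀.mapMatrix N)) (isUnit_toFn hu), ?_⟩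
  rw [comp_matPt, comp_matPt, comp_matPt, matPt_mul]
  refine matPt_congr ?_
  rw [toFn_map, toFn_map, toFn_map, ← toFn_mul]
  refine congrArg toFn ?_
  have h2 := congrArg (Algebra.TensorProduct.map ι₀ ι₀).mapMatrix hN
  rw [map_mul] at h2
  refine Eq.trans ?_ (h2.trans (congrArg₂ (· * ·) rfl ?_))
  · ext i i'
    simp [ι₀, Algebra.TensorProduct.one_def]
  · ext i i'
    simp [ι₀, Algebra.TensorProduct.one_def]

end Groth.Agent.CechTorsorX.GLH90
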