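import Groth.Agent.CechTorsorX.ZariskiTriv
import Groth.Agent.CechTorsorX.GLCocycle
import Groth.Agent.GrpSchLib.GaPts

/-! Hilbert 90, Zariski locally on the base, for `𝔾_m` and `𝔾_a`. -/

set_option autoImplicit false
set_option backward.isDefEq.respectTransparency false
set_option backward.isDefEq.respectTransparency.types false
universe u

open CategoryTheory CategoryTheory.Limits MonoidalCategory CartesianMonoidalCategory MonObj GrpObj AlgebraicGeometry
open TensorProduct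

noncomputable section

namespace Groth.Agent.CechTorsorX.GaGmH90

open Groth.Agent.CechTorsorX.ZariskiTriv Groth.Agent.CechTorsorX.GLCocycle Groth.Agent.GmH1Lib.Hilbert90

variable {S : Scheme.{u}} {R : Type u} [CommRing R] {j : Spec (CommRingCat.of R) ⟶ S}
variable {B C : Type u} [CommRing B] [CommRing C] [Algebra R B] [Algebra R C]

theorem sh_appTop (h : B →ₐ[R] C) (a : Γ(Spec (CommRingCat.of B), ⊤)) :
    (Scheme.ΓSpecIso (CommRingCat.of C)).hom ((sh (j := j) h).left.appTop a) =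
      h ((Scheme.ΓSpecIso (CommRingCat.of B)).hom a) :=
  congrArg (fun ψ => (ConcreteCategory.hom ψ) a) (Scheme.ΓSpecIso_naturality (CommRingCat.ofHom h.toRingHom))

/-- The element attached to a point of `𝔾_m`. -/
def mFn (x : sp j B ⟶ Red.Gm S) : B := (Scheme.ΓSpecIso (CommRingCat.of B)).hom (Red.gmFn x)

theorem mFn_sh (h : B →ₐ[R] C) (x : sp j B ⟶ Red.Gm S) : mFn (sh h ≫ x) = h (mFn x) :=
  (congrArg (Scheme.ΓSpecIso (CommRingCat.of C)).hom (GmPts.gmFn_comp (sh h) x)).trans (sh_appTop h _)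

theorem mFn_mul (x y : sp j B ⟶ Red.Gm S) : mFn (x * y) = mFn x * mFn y :=
  (congrArg (Scheme.ΓSpecIso (CommRingCat.of B)).hom (GmPts.gmFn_mul x y)).trans (map_mul _ _ _)

theorem isUnit_mFn (x : sp j B ⟶ Red.Gm S) : IsUnit (mFn x) :=
  (GmPts.isUnit_gmFn x).map (Scheme.ΓSpecIso (CommRingCat.of B)).hom.hom

theorem mFn_injective : Function.Injective (mFn (j := j) (B := B)) := fun _ _ h =>
  GmPts.gmFn_injective ((Scheme.ΓSpecIso (CommRingCat.of B)).commRingCatIsoToRingEquiv.injective h)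

theorem mFn_surjective {v : B} (hv : IsUnit v) : ∃ x : sp j B ⟶ Red.Gm S, mFn x = v := by
  let e := (Scheme.ΓSpecIso (CommRingCat.of B)).commRingCatIsoToRingEquiv
  refine ⟨GmPts.ptOfUnit (Units.map e.symm.toRingHom.toMonoidHom hv.unit), ?_⟩
  unfold mFn
  rw [GmPts.gmFn_ptOfUnit]
  exact e.apply_symm_apply v

/-- Hilbert 90 for the multiplicative group. -/
theorem localH90_gm : LocalH90 (Red.Gm S) := by
  intro R A _ _ _ _ j g hc p
  let M : Matrix (Fin 1) (Fin 1) (A ⊗[R] A) := Matrix.of fun _ _ => mFn g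
  have hM : IsUnit M := (Matrix.isUnit_iff_isUnit_det _).2 (by rw [Matrix.det_fin_one]; exact isUnit_mFn g)
  have hc' : p02 R A (mFn g) = p01 R A (mFn g) * p12 R A (mFn g) := by
    rw [← mFn_sh (j := j) (p02 R A) g, hc, mFn_mul, mFn_sh, mFn_sh]
  obtain ⟨f, hf, N, hN, k, b₀, hb₀⟩ := exists_matrix hM.unit (by
    ext i i'
    simpa [Matrix.mul_apply, M] using hc') p
  let ι₀ := cι R A f
  have hu : IsUnit (ι₀ (N 0 0)) := by
    have h1 : IsUnit (ι₀ (N.det * b₀)) := by
      rw [hb₀, map_pow, AlgHom.commutes]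
      refine IsUnit.pow k ?_
      rw [IsScalarTower.algebraMap_apply R (Localization.Away f) (CC R A f)]
      exact (IsLocalization.Away.algebraMap_isUnit f).map _
    rw [map_mul, Matrix.det_fin_one] at h1
    exact isUnit_of_mul_isUnit_left h1
  obtain ⟨x, hx⟩ := mFn_surjective (j := j) hu
  refine ⟨f, hf, x, mFn_injective ?_⟩
  rw [mFn_mul, mFn_sh, mFn_sh, mFn_sh, hx]
  have hN' := congrFun₂ hN 0 0
  simp [Matrix.mul_apply, M] at hN'
  have := congrArg (Algebra.TensorProduct.map ι₀ ι₀) hN'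
  simpa [ι₀, Algebra.TensorProduct.one_def] using this

/-- The element attached to a point of `𝔾_a`. -/
def aFn (x : sp j B ⟶ Red.Ga S) : B := (Scheme.ΓSpecIso (CommRingCat.of B)).hom (Red.gaFn x)

open Groth.Agent.GrpSchLib in
theorem aFn_sh (h : B →ₐ[R] C) (x : sp j B ⟶ Red.Ga S) : aFn (sh h ≫ x) = h (aFn x) :=
  (congrArg (Scheme.ΓSpecIso (CommRingCat.of C)).hom (GaPts.gaFn_comp (sh h) x)).trans (sh_appTop h _)

open Groth.Agent.GrpSchLib in
theorem aFn_mul (x y : sp j B ⟶ Red.Ga S) : aFn (x * y) = aFn x + aFn y :=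
  (congrArg (Scheme.ΓSpecIso (CommRingCat.of B)).hom (GaPts.gaFn_mul x y)).trans (map_add _ _ _)

open Groth.Agent.GrpSchLib in
theorem aFn_injective : Function.Injective (aFn (j := j) (B := B)) := fun _ _ h =>
  GaPts.gaFn_injective ((Scheme.ΓSpecIso (CommRingCat.of B)).commRingCatIsoToRingEquiv.injective h)

/-- Hilbert 90 for the additive group. -/
theorem localH90_ga : LocalH90 (Red.Ga S) := by
  intro R A _ _ _ _ j g hc p
  have hc' : p02 R A (aFn g) = p01 R A (aFn g) + p12 R A (aFn g) := by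
    rw [← aFn_sh (j := j) (p02 R A) g, hc, aFn_mul, aFn_sh, aFn_sh]
  obtain ⟨b, hb⟩ := exists_add (aFn g) hc'
  refine ⟨1, fun h => p.isPrime.ne_top ((Ideal.eq_top_iff_one _).2 h), ?_⟩
  let ι₀ := cι R A (1 : R)
  let e := (Scheme.ΓSpecIso (CommRingCat.of (CC R A (1 : R)))).commRingCatIsoToRingEquiv
  refine ⟨Groth.Agent.GrpSchLib.GaPts.ptOfFn (e.symm (ι₀ b)), aFn_injective ?_⟩
  have hx : aFn (j := j) (Groth.Agent.GrpSchLib.GaPts.ptOfFn (e.symm (ι₀ b))) = ι₀ b := by
    unfold aFn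
    rw [Groth.Agent.GrpSchLib.GaPts.gaFn_ptOfFn]
    exact e.apply_symm_apply _
  rw [aFn_mul, aFn_sh, aFn_sh, aFn_sh, hx, ← hb]
  simp [ι₀, map_sub, Algebra.TensorProduct.one_def]

end Groth.Agent.CechTorsorX.GaGmH90
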