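import Groth.Agent.CechTorsorX.GenExtAlg
import Groth.Agent.SchTorsor.NormalExt
import Groth.Agent.Approx.Basic
import Groth.Prelude.Def_ActBC
import Mathlib.AlgebraicGeometry.Morphisms.SchemeTheoreticallyDominant

/-! Generic equivariant morphisms of finite flat torsors over normal integral schemes extend. -/

set_option autoImplicit false
set_option backward.isDefEq.respectTransparency false
set_option backward.isDefEq.respectTransparency.types false
set_option linter.style.haveILetI false
universe u

open CategoryTheory CategoryTheory.Limits MonoidalCategory CartesianMonoidalCategory MonObj GrpObj AlgebraicGeometry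
open TensorProduct

noncomputable section

namespace Groth.Agent.CechTorsorX.GenExt

open Groth.Agent.CechTorsorX.ZariskiTriv Groth.Agent.CechTorsorX.GenExtAlg

variable {X : Scheme.{u}} {A K : Type u} [CommRing A] [CommRing K] [Algebra A K]
  {j : Spec (CommRingCat.of A) ⟶ X} {η₀ : Spec (CommRingCat.of K) ⟶ X}
  (hη : Spec.map (CommRingCat.ofHom (algebraMap A K)) ≫ j = η₀)
  {G P P' : Over X} [GrpObj G]

/-- A spectrum over the generic point. -/
abbrev spK (R : Type u) [CommRing R] [Algebra K R] : Over (Spec (CommRingCat.of K)) :=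
  Over.mk (Spec.map (CommRingCat.ofHom (algebraMap K R)))

include hη in
theorem spec_algebraMap (R : Type u) [CommRing R] [Algebra A R] [Algebra K R] [IsScalarTower A K R] :
    Spec.map (CommRingCat.ofHom (algebraMap A R)) ≫ j = Spec.map (CommRingCat.ofHom (algebraMap K R)) ≫ η₀ := by
  rw [← hη, ← Category.assoc, ← Spec.map_comp, ← CommRingCat.ofHom_comp, ← IsScalarTower.algebraMap_eq]

/-- The comparison of spectra over the generic point and over the affine. -/
def spIso (R : Type u) [CommRing R] [Algebra A R] [Algebra K R] [IsScalarTower A K R] :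
    sp j R ≅ (Over.map η₀).obj (spK (K := K) R) :=
  Over.isoMk (Iso.refl _) (by
    show 𝟙 _ ≫ Spec.map _ ≫ η₀ = _
    rw [Category.id_comp, ← spec_algebraMap hη R]
    rfl)

/-- The action of a generic morphism on points. -/
def eps (eK : Red.bc η₀ P ⟶ Red.bc η₀ P') (R : Type u) [CommRing R] [Algebra A R] [Algebra K R] [IsScalarTower A K R]
    (x : sp j R ⟶ P) : sp j R ⟶ P' :=
  (spIso hη R).hom ≫ ((Over.mapPullbackAdj η₀).homEquiv _ _).symm
    ((Over.mapPullbackAdj η₀).homEquiv _ _ ((spIso hη R).inv ≫ x) ≫ eK)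

theorem eps_equivariant (a : AlgGrp.Action G P) (a' : AlgGrp.Action G P') {eK : Red.bc η₀ P ⟶ Red.bc η₀ P'}
    (he : (a.bc η₀).act ≫ eK = ((Red.bc η₀ G) ◁ eK) ≫ (a'.bc η₀).act)
    (R : Type u) [CommRing R] [Algebra A R] [Algebra K R] [IsScalarTower A K R] (g : sp j R ⟶ G) (x : sp j R ⟶ P) :
    eps hη eK R (lift g x ≫ a.act) = lift g (eps hη eK R x) ≫ a'.act := by
  unfold eps
  rw [← Category.assoc _ (lift g x), comp_lift, ← AlgGrp.Action.lift_homEquiv_bc_act]
  rw [Category.assoc, he, lift_whiskerLeft_assoc]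
  obtain ⟨y, hy⟩ : ∃ y, (Over.mapPullbackAdj η₀).homEquiv _ _ y =
      (Over.mapPullbackAdj η₀).homEquiv _ _ ((spIso hη R).inv ≫ x) ≫ eK :=
    ⟨_, Equiv.apply_symm_apply _ _⟩
  rw [← hy, Equiv.symm_apply_apply, AlgGrp.Action.lift_homEquiv_bc_act, Equiv.symm_apply_apply,
    ← Category.assoc, comp_lift, Iso.hom_inv_id_assoc]

theorem eps_left (eK : Red.bc η₀ P ⟶ Red.bc η₀ P') (R : Type u) [CommRing R] [Algebra A R] [Algebra K R]
    [IsScalarTower A K R] (x : sp j R ⟶ P) :
    (eps hη eK R x).left =
      pullback.lift x.left (Spec.map (CommRingCat.ofHom (algebraMap K R)))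
        ((Over.w x).trans (spec_algebraMap hη R)) ≫ eK.left ≫ pullback.fst P'.hom η₀ := by
  have hl : ((Over.mapPullbackAdj η₀).homEquiv _ _ ((spIso hη R).inv ≫ x)).left =
      pullback.lift x.left (Spec.map (CommRingCat.ofHom (algebraMap K R))) ((Over.w x).trans (spec_algebraMap hη R)) := by
    simp [Over.mapPullbackAdj, Adjunction.mkOfHomEquiv_homEquiv, spIso]
  rw [← hl, eps, Over.comp_left]
  simp [Over.mapPullbackAdj, Adjunction.mkOfHomEquiv_homEquiv, spIso]

include hη in
theorem eps_natural [IsDomain A] [IsFractionRing A K] (eK : Red.bc η₀ P ⟶ Red.bc η₀ P')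
    (R R₂ : Type u) [CommRing R] [Algebra A R] [Algebra K R] [IsScalarTower A K R]
    [CommRing R₂] [Algebra A R₂] [Algebra K R₂] [IsScalarTower A K R₂] (h : R →ₐ[A] R₂) (x : sp j R ⟶ P) :
    eps hη eK R₂ (sh h ≫ x) = sh h ≫ eps hη eK R x := by
  ext1
  rw [Over.comp_left, eps_left, eps_left]
  refine Eq.trans ?_ (Category.assoc _ _ _)
  congr 1
  refine pullback.hom_ext (f := P.hom) (g := η₀) ?_ ?_
  · simp [sh]
  · simp only [sh, Over.homMk_left, Category.assoc, pullback.lift_snd, ← Spec.map_comp, ← CommRingCat.ofHom_comp]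
    congr 2
    refine IsLocalization.ringHom_ext (nonZeroDivisors A) (RingHom.ext fun r => ?_)
    simp [← IsScalarTower.algebraMap_apply]

end Groth.Agent.CechTorsorX.GenExt

namespace Groth.Agent.CechTorsorX.GenExt

open Groth.Agent.CechTorsorX.ZariskiTriv Groth.Agent.CechTorsorX.GenExtAlg

variable {X : Scheme.{u}} [AlgebraicGeometry.IsIntegral X] {G P P' : Over X} [GrpObj G]

/-- A generic equivariant morphism of finite flat torsors over a normal scheme extends equivariantly. -/
theorem exists_hom (hX : Pi1.IsNormalScheme X) (a : AlgGrp.Action G P) (a' : AlgGrp.Action G P')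
    (ha : NonAbH1.IsPseudoTorsorSch a) (ha' : NonAbH1.IsPseudoTorsorSch a')
    [IsFinite G.hom] [IsFinite P.hom] [IsFinite P'.hom] [Flat G.hom] [Flat P.hom] [Flat P'.hom] [Surjective P.hom]
    [Surjective P'.hom]
    (eK : Red.bc (X.fromSpecStalk (genericPoint X)) P ⟶ Red.bc (X.fromSpecStalk (genericPoint X)) P')
    (he : (a.bc _).act ≫ eK = ((Red.bc (X.fromSpecStalk (genericPoint X)) G) ◁ eK) ≫ (a'.bc _).act) :
    ∃ f : P ⟶ P', a.act ≫ f = (G ◁ f) ≫ a'.act := by
  let η₀ := X.fromSpecStalk (genericPoint X)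
  haveI : QuasiCompact η₀ := inferInstance
  haveI : IsSchemeTheoreticallyDominant η₀ := by
    haveI : IsDominant η₀ := ⟨dense_iff_closure_eq.2 (Set.univ_subset_iff.1 (by
      refine (genericPoint_closure (α := X)).symm.subset.trans (closure_mono ?_)
      rw [Scheme.range_fromSpecStalk]
      rintro _ rfl
      exact specializes_rfl))⟩
    exact .of_isDominant _
  let ψ : pullback P.hom η₀ ⟶ P'.left := eK.left ≫ pullback.fst P'.hom η₀
  have hψ : ψ ≫ P'.hom = pullback.fst P.hom η₀ ≫ P.hom := by
    show (eK.left ≫ pullback.fst P'.hom η₀) ≫ P'.hom = _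
    rw [Category.assoc, pullback.condition, pullback.condition, ← Category.assoc]
    exact congrArg (· ≫ η₀) (Over.w eK)
  -- local extensions
  have key : ∀ x : X, ∃ (Q : Scheme.{u}) (q : Q ⟶ P.left) (F : Q ⟶ P'.left),
      IsOpenImmersion q ∧ P.hom ⁻¹' {x} ⊆ Set.range q ∧ F ≫ P'.hom = q ≫ P.hom ∧
      pullback.fst (q ≫ P.hom) η₀ ≫ F =
        pullback.lift (pullback.fst (q ≫ P.hom) η₀ ≫ q) (pullback.snd (q ≫ P.hom) η₀)
          ((Category.assoc _ _ _).trans pullback.condition) ≫ ψ := by
    intro x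
    obtain ⟨V, hV, hxV, -⟩ := exists_isAffineOpen_mem_and_subset (X := X) (x := x) (U := ⊤) trivial
    haveI : Nonempty V := ⟨⟨x, hxV⟩⟩
    haveI := (Groth.Agent.S9821.result X).1 hX V hV
    haveI := functionField_isFractionRing_of_isAffineOpen X V hV
    have hη : Spec.map (CommRingCat.ofHom (algebraMap Γ(X, V) X.functionField)) ≫ hV.fromSpec = η₀ := by
      show _ = X.fromSpecStalk (genericPoint X)
      rw [← hV.fromSpecStalk_eq_fromSpecStalk (SchTorsor.genericPoint_mem V hxV)]
      rfl
    obtain ⟨B, _, _, τ, H⟩ := exists_coord (A := Γ(X, V)) P hV.fromSpec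
    obtain ⟨F, hF⟩ := exists_extension (X.functionField) a a' ha ha' (fun R _ _ _ _ => eps hη eK R)
      (fun R R₂ _ _ _ _ _ _ _ _ h y => eps_natural hη eK R R₂ h y)
      (fun R _ _ _ _ g y => eps_equivariant hη a a' he R g y) H
    haveI : IsOpenImmersion τ.left := MorphismProperty.of_isPullback H.flip inferInstance
    refine ⟨_, τ.left, F.left, inferInstance, ?_, (Over.w F).trans (Over.w τ).symm, ?_⟩
    · intro y hy
      obtain ⟨v, hv⟩ := hV.range_fromSpec.ge hxV
      obtain ⟨z, hz, -⟩ := Scheme.Pullback.exists_preimage_pullback (f := P.hom) (g := hV.fromSpec) y v (hy.trans hv.symm)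
      refine ⟨H.isoPullback.inv z, ?_⟩
      rw [← Scheme.Hom.comp_apply, H.isoPullback_inv_fst]
      exact hz
    · let R := X.functionField ⊗[Γ(X, V)] B
      let p₀ : B →ₐ[Γ(X, V)] R := Algebra.TensorProduct.includeRight
      let Qη := pullback (τ.left ≫ P.hom) η₀
      have hc : pullback.snd (τ.left ≫ P.hom) η₀ ≫ Spec.map (CommRingCat.ofHom (algebraMap Γ(X, V) X.functionField)) =
          pullback.fst (τ.left ≫ P.hom) η₀ ≫ Spec.map (CommRingCat.ofHom (algebraMap Γ(X, V) B)) := by
        rw [← cancel_mono hV.fromSpec, Category.assoc, Category.assoc, hη, ← H.w, ← pullback.condition]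
      let κ : Qη ⟶ Spec (CommRingCat.of R) :=
        pullback.lift _ _ hc ≫ (pullbackSpecIso Γ(X, V) X.functionField B).hom
      have hκ1 : κ ≫ Spec.map (CommRingCat.ofHom p₀.toRingHom) = pullback.fst (τ.left ≫ P.hom) η₀ := by
        refine (congrArg (κ ≫ ·) (pullbackSpecIso_inv_snd Γ(X, V) X.functionField B).symm).trans ?_
        simp [κ]
      have hκ2 : κ ≫ Spec.map (CommRingCat.ofHom (algebraMap X.functionField R)) = pullback.snd (τ.left ≫ P.hom) η₀ := by
        refine (congrArg (κ ≫ ·) (pullbackSpecIso_inv_fst Γ(X, V) X.functionField B).symm).trans ?_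
        simp [κ]
      have h0 : Spec.map (CommRingCat.ofHom p₀.toRingHom) ≫ F.left = _ :=
        (congrArg CommaMorphism.left hF).trans (eps_left hη eK R _)
      refine (congrArg (· ≫ F.left) hκ1.symm).trans ?_
      refine (Category.assoc _ _ _).trans ((congrArg (κ ≫ ·) h0).trans ?_)
      refine (Category.assoc _ _ _).symm.trans ?_
      congr 1
      refine pullback.hom_ext (f := P.hom) (g := η₀) ?_ ?_
      · simp only [Category.assoc, pullback.lift_fst]
        exact (Category.assoc _ _ _).symm.trans (congrArg (· ≫ τ.left) hκ1)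
      · simp only [Category.assoc, pullback.lift_snd]
        exact hκ2
  choose Q q F hq hcov hFw hFψ using key
  let 𝒰 : P.left.OpenCover :=
    { I₀ := X
      X := Q
      f := q
      mem₀ := by
        rw [Scheme.ofArrows_mem_precoverage_iff]
        exact ⟨fun y => ⟨P.hom y, hcov (P.hom y) rfl⟩, hq⟩ }
  have hcompat : ∀ x y : X, pullback.fst (𝒰.f x) (𝒰.f y) ≫ F x = pullback.snd (𝒰.f x) (𝒰.f y) ≫ F y := by
    intro x y
    haveI := hq x
    haveI := hq y
    let W := pullback (q x) (q y)
    let w : W ⟶ X := pullback.fst (q x) (q y) ≫ q x ≫ P.hom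
    haveI : Flat w := inferInstance
    refine Approx.ext_of_schDom (pullback.fst w η₀) P'.hom _ _ ?_ ?_
    · show (pullback.fst (q x) (q y) ≫ F x) ≫ P'.hom = (pullback.snd (q x) (q y) ≫ F y) ≫ P'.hom
      rw [Category.assoc, Category.assoc, hFw, hFw, ← Category.assoc, pullback.condition, Category.assoc]
    · have lf : ∀ (i : X) (r : W ⟶ Q i) (hr : r ≫ q i = pullback.fst (q x) (q y) ≫ q x),
          pullback.fst w η₀ ≫ r ≫ F i =
            pullback.lift (pullback.fst w η₀ ≫ pullback.fst (q x) (q y) ≫ q x) (pullback.snd w η₀)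
              (by simp only [Category.assoc]; exact pullback.condition) ≫ ψ := by
        intro i r hr
        let m : pullback w η₀ ⟶ pullback (q i ≫ P.hom) η₀ :=
          pullback.lift (pullback.fst w η₀ ≫ r) (pullback.snd w η₀) (by
            rw [Category.assoc, ← Category.assoc r, hr, Category.assoc]
            exact pullback.condition)
        have h1 := congrArg (m ≫ ·) (hFψ i)
        simp only [m, pullback.lift_fst_assoc, Category.assoc] at h1
        rw [h1, ← Category.assoc]
        congr 1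
        apply pullback.hom_ext <;> simp [hr]
      exact (lf x _ rfl).trans (lf y _ pullback.condition.symm).symm
  let f₀ := 𝒰.glueMorphisms F hcompat
  have hf₀ : ∀ x, q x ≫ f₀ = F x := fun x => Scheme.Cover.ι_glueMorphisms 𝒰 F hcompat x
  have hf₀w : f₀ ≫ P'.hom = P.hom := 𝒰.hom_ext _ _ fun x => by
    rw [← Category.assoc]
    exact (congrArg (· ≫ P'.hom) (hf₀ x)).trans (hFw x)
  let f : P ⟶ P' := Over.homMk f₀ hf₀w
  have hgen : pullback.fst P.hom η₀ ≫ f₀ = ψ := by
    refine Scheme.Cover.hom_ext (𝒰.pullback₁ (pullback.fst P.hom η₀)) _ _ fun x => ?_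
    let m : pullback (pullback.fst P.hom η₀) (q x) ⟶ pullback (q x ≫ P.hom) η₀ :=
      pullback.lift (pullback.snd _ _) (pullback.fst _ _ ≫ pullback.snd P.hom η₀) (by
        rw [← Category.assoc, ← pullback.condition, Category.assoc, Category.assoc, pullback.condition])
    show pullback.fst (pullback.fst P.hom η₀) (q x) ≫ pullback.fst P.hom η₀ ≫ f₀ = pullback.fst _ _ ≫ ψ
    rw [← Category.assoc, pullback.condition, Category.assoc, hf₀]
    have h1 := congrArg (m ≫ ·) (hFψ x)
    simp only [m, pullback.lift_fst_assoc] at h1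
    rw [h1, ← Category.assoc]
    congr 1
    apply pullback.hom_ext <;> simp [← pullback.condition]
  have hmap : (Over.pullback η₀).map f = eK := by
    ext1
    apply pullback.hom_ext
    · rw [ActBC.pullback_map_left_fst]
      exact hgen
    · exact (Over.w _).trans (Over.w eK).symm
  refine ⟨f, ?_⟩
  have hb : (Over.pullback η₀).map (a.act ≫ f) = (Over.pullback η₀).map ((G ◁ f) ≫ a'.act) := by
    rw [← cancel_epi (Functor.LaxMonoidal.μ (Over.pullback η₀) G P), Functor.map_comp, Functor.map_comp,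
      ← Functor.LaxMonoidal.μ_natural_right_assoc, hmap, ← Category.assoc]
    exact he
  haveI : Flat (G ⊗ P).hom := inferInstanceAs (Flat (pullback.fst G.hom P.hom ≫ G.hom))
  ext1
  refine Approx.ext_of_schDom (pullback.fst (G ⊗ P).hom η₀) P'.hom _ _ ((Over.w _).trans (Over.w _).symm) ?_
  rw [← ActBC.pullback_map_left_fst, ← ActBC.pullback_map_left_fst, hb]

end Groth.Agent.CechTorsorX.GenExt
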