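import Groth.Agent.CechTorsorX.ZariskiTriv
import Groth.Agent.SchTorsor.Props
import Mathlib.RingTheory.IntegralClosure.IntegrallyClosed
import Mathlib.AlgebraicGeometry.Morphisms.Finite

/-! Affine points and extension of generic morphisms of finite flat torsors over normal affines. -/

set_option autoImplicit false
set_option backward.isDefEq.respectTransparency false
set_option backward.isDefEq.respectTransparency.types false
set_option linter.style.haveILetI false
universe u

open CategoryTheory CategoryTheory.Limits MonoidalCategory CartesianMonoidalCategory MonObj GrpObj AlgebraicGeometry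
open TensorProduct

namespace Groth.Agent.CechTorsorX.GenExtAlg

open Groth.Agent.CechTorsorX.ZariskiTriv Groth.Agent.SchTorsor

variable {X : Scheme.{u}} {A : Type u} [CommRing A] {j : Spec (CommRingCat.of A) ⟶ X}

/-- A scheme affine over the base has coordinates over an affine. -/
theorem exists_coord (Y : Over X) [IsAffineHom Y.hom] (j : Spec (CommRingCat.of A) ⟶ X) :
    ∃ (B : Type u) (_ : CommRing B) (_ : Algebra A B) (τ : sp j B ⟶ Y),
      IsPullback τ.left (Spec.map (CommRingCat.ofHom (algebraMap A B))) Y.hom j := by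
  let Q := pullback Y.hom j
  haveI : IsAffine Q := isAffine_of_isAffineHom (pullback.snd Y.hom j)
  let b : CommRingCat.of A ⟶ Γ(Q, ⊤) := Spec.preimage (Q.isoSpec.inv ≫ pullback.snd Y.hom j)
  letI : Algebra A Γ(Q, ⊤) := b.hom.toAlgebra
  have hb : Spec.map (CommRingCat.ofHom (algebraMap A Γ(Q, ⊤))) = Q.isoSpec.inv ≫ pullback.snd Y.hom j := by
    rw [RingHom.algebraMap_toAlgebra, CommRingCat.ofHom_hom, Spec.map_preimage]
  refine ⟨Γ(Q, ⊤), inferInstance, inferInstance, Over.homMk (Q.isoSpec.inv ≫ pullback.fst Y.hom j) (by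
    show _ = Spec.map _ ≫ j
    rw [hb, Category.assoc, Category.assoc, pullback.condition]), ?_⟩
  refine (IsPullback.of_hasPullback Y.hom j).of_iso Q.isoSpec (Iso.refl _) (Iso.refl _) (Iso.refl _) ?_ ?_ ?_ ?_ <;>
    simp [hb, Q]

variable {Y : Over X} {B : Type u} [CommRing B] [Algebra A B] {τ : sp j B ⟶ Y}
  (H : IsPullback τ.left (Spec.map (CommRingCat.ofHom (algebraMap A B))) Y.hom j)

include H

/-- Points are algebra maps out of the coordinates. -/
theorem exists_pt {R : Type u} [CommRing R] [Algebra A R] (y : sp j R ⟶ Y) :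
    ∃ h : B →ₐ[A] R, sh h ≫ τ = y := by
  obtain ⟨ψ, hψ⟩ := Spec.map_surjective (H.lift y.left (Spec.map (CommRingCat.ofHom (algebraMap A R))) (Over.w y))
  have h2 : CommRingCat.ofHom (algebraMap A B) ≫ ψ = CommRingCat.ofHom (algebraMap A R) := by
    apply Spec.map_injective
    rw [Spec.map_comp, hψ]
    exact H.lift_snd _ _ _
  refine ⟨⟨ψ.hom, fun r => congr($(h2) r)⟩, ?_⟩
  ext1
  show Spec.map ψ ≫ τ.left = y.left
  rw [hψ]
  exact H.lift_fst _ _ _

/-- Points determine the algebra map. -/
theorem pt_injective {R : Type u} [CommRing R] [Algebra A R] {h h' : B →ₐ[A] R} (e : sh h ≫ τ = sh h' ≫ τ) :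
    h = h' := by
  apply AlgHom.coe_ringHom_injective
  refine congrArg CommRingCat.Hom.hom (Spec.map_injective (H.hom_ext ?_ ?_) :
    CommRingCat.ofHom (h : B →+* R) = CommRingCat.ofHom (h' : B →+* R))
  · exact congrArg CommaMorphism.left e
  · rw [← Spec.map_comp, ← Spec.map_comp, ← CommRingCat.ofHom_comp, ← CommRingCat.ofHom_comp,
      h.comp_algebraMap, h'.comp_algebraMap]

theorem module_finite [IsFinite Y.hom] : Module.Finite A B := by
  have : IsFinite (Spec.map (CommRingCat.ofHom (algebraMap A B))) := MorphismProperty.of_isPullback H inferInstance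
  exact RingHom.finite_algebraMap.1 ((IsFinite.SpecMap_iff _).1 this)

theorem module_faithfullyFlat [Flat Y.hom] [Surjective Y.hom] : Module.FaithfullyFlat A B := by
  have hf : Flat (Spec.map (CommRingCat.ofHom (algebraMap A B))) := MorphismProperty.of_isPullback H inferInstance
  have hs : Surjective (Spec.map (CommRingCat.ofHom (algebraMap A B))) := MorphismProperty.of_isPullback H inferInstance
  haveI : Module.Flat A B := RingHom.flat_algebraMap_iff.1 ((HasRingHomProperty.Spec_iff (P := @Flat)).1 hf)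
  exact Module.FaithfullyFlat.of_comap_surjective hs.surj

omit H

/-- The integral closure, receiving all maps from finite algebras. -/
theorem exists_integral_subring (A L : Type u) [CommRing A] [CommRing L] [Algebra A L] :
    ∃ (C' : Type u) (_ : CommRing C') (_ : Algebra A C') (val : C' →ₐ[A] L),
      Function.Injective val ∧ (∀ c, IsIntegral A (val c)) ∧
        ∀ (R : Type u) [CommRing R] [Algebra A R] [Module.Finite A R] (h : R →ₐ[A] L),
          ∃ h' : R →ₐ[A] C', val.comp h' = h :=
  ⟨integralClosure A L, inferInstance, inferInstance, (integralClosure A L).val, Subtype.val_injective,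
    fun c => c.2, fun _ _ _ _ h =>
      ⟨h.codRestrict (integralClosure A L) fun x => (Algebra.IsIntegral.isIntegral x).map h, AlgHom.ext fun _ => rfl⟩⟩

/-- A flat algebra is cut out by the generic fibre and the integral closure in a nonzero generic cover. -/
theorem exists_eq_of_integral [IsDomain A] [IsIntegrallyClosed A] {K : Type u} [Field K] [Algebra A K]
    [IsFractionRing A K] (B : Type u) [CommRing B] [Algebra A B] [Module.Flat A B]
    {L : Type u} [CommRing L] [Algebra A L] (ιm : K →ₐ[A] L) (hι : Function.Injective ιm)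
    {C' : Type u} [CommRing C'] [Algebra A C'] (val : C' →ₐ[A] L) (hval : Function.Injective val)
    (hint : ∀ c, IsIntegral A (val c)) (x : K ⊗[A] B) (y : C' ⊗[A] B)
    (h : ιm.toLinearMap.rTensor B x = val.toLinearMap.rTensor B y) :
    ∃ b : B, (1 : K) ⊗ₜ[A] b = x := by
  let d : K × C' →ₗ[A] L := ιm.toLinearMap.coprod (-val.toLinearMap)
  let i : A →ₗ[A] K × C' := (Algebra.linearMap A K).prod (Algebra.linearMap A C')
  have hex : Function.Exact i d := by
    rintro ⟨u, v⟩
    constructor
    · intro huv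
      have huv' : ιm u = val v := by simpa [d, add_neg_eq_zero] using huv
      have hu : IsIntegral A u := (isIntegral_algHom_iff ιm hι).1 (huv' ▸ hint v)
      obtain ⟨a, rfl⟩ := IsIntegrallyClosed.isIntegral_iff.1 hu
      refine ⟨a, Prod.ext rfl (hval ?_)⟩
      rw [← huv', ιm.commutes]
      exact val.commutes a
    · rintro ⟨a, ha⟩
      rw [← ha]
      simp [d, i]
  let z : (K × C') ⊗[A] B := (LinearMap.inl A K C').rTensor B x + (LinearMap.inr A K C').rTensor B y
  have hz : d.rTensor B z = 0 := by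
    simp only [z, map_add, ← LinearMap.comp_apply (d.rTensor B), ← LinearMap.rTensor_comp]
    simp only [d, LinearMap.coprod_inl, LinearMap.coprod_inr, LinearMap.rTensor_neg, LinearMap.neg_apply, h]
    exact add_neg_cancel _
  obtain ⟨t, ht⟩ := (Module.Flat.rTensor_exact B hex z).1 hz
  refine ⟨TensorProduct.lid A B t, ?_⟩
  have h1 := congrArg ((LinearMap.fst A K C').rTensor B) ht
  simp only [z, map_add, ← LinearMap.comp_apply ((LinearMap.fst A K C').rTensor B), ← LinearMap.rTensor_comp] at h1
  simp [i, LinearMap.fst_prod, LinearMap.fst_comp_inr] at h1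
  rw [← h1]
  clear h1 ht
  induction t using TensorProduct.induction_on with
  | zero => simp
  | add p q hp hq => simp only [map_add, tmul_add, hp, hq]
  | tmul a b => simp [Algebra.algebraMap_eq_smul_one, smul_tmul', tmul_smul]

variable {G P P' : Over X} [GrpObj G]

/-- A generic equivariant morphism of finite flat torsors extends over a normal affine. -/
theorem exists_extension [IsDomain A] [IsIntegrallyClosed A] (K : Type u) [Field K] [Algebra A K] [IsFractionRing A K]
    (a : AlgGrp.Action G P) (a' : AlgGrp.Action G P')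
    (ha : NonAbH1.IsPseudoTorsorSch a) (ha' : NonAbH1.IsPseudoTorsorSch a')
    [IsFinite G.hom] [IsFinite P.hom] [IsFinite P'.hom] [Flat P.hom] [Flat P'.hom] [Surjective P.hom]
    [Surjective P'.hom]
    (ε : ∀ (R : Type u) [CommRing R] [Algebra A R] [Algebra K R] [IsScalarTower A K R],
      (sp j R ⟶ P) → (sp j R ⟶ P'))
    (hnat : ∀ (R R₂ : Type u) [CommRing R] [Algebra A R] [Algebra K R] [IsScalarTower A K R]
      [CommRing R₂] [Algebra A R₂] [Algebra K R₂] [IsScalarTower A K R₂] (h : R →ₐ[A] R₂) (x : sp j R ⟶ P),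
      ε R₂ (sh h ≫ x) = sh h ≫ ε R x)
    (hequiv : ∀ (R : Type u) [CommRing R] [Algebra A R] [Algebra K R] [IsScalarTower A K R]
      (g : sp j R ⟶ G) (x : sp j R ⟶ P), ε R (lift g x ≫ a.act) = lift g (ε R x) ≫ a'.act)
    {B : Type u} [CommRing B] [Algebra A B] {τ : sp j B ⟶ P}
    (H : IsPullback τ.left (Spec.map (CommRingCat.ofHom (algebraMap A B))) P.hom j) :
    ∃ F : sp j B ⟶ P',
      sh (B := B) (C := K ⊗[A] B) Algebra.TensorProduct.includeRight ≫ F =
        ε (K ⊗[A] B) (sh (B := B) (C := K ⊗[A] B) Algebra.TensorProduct.includeRight ≫ τ) := by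
  obtain ⟨B', _, _, τ', H'⟩ := exists_coord P' j
  obtain ⟨Hc, _, _, τG, HG⟩ := exists_coord G j
  haveI := module_finite H
  haveI := module_finite H'
  haveI := module_finite HG
  haveI := module_faithfullyFlat H
  haveI := module_faithfullyFlat H'
  haveI : Module.FaithfullyFlat A (B ⊗[A] B') := Module.FaithfullyFlat.trans A B (B ⊗[A] B')
  let C := B ⊗[A] B'
  let L := K ⊗[A] C
  obtain ⟨C', _, _, val, hval, hint, hfac⟩ := exists_integral_subring A L
  let ιK : K →ₐ[A] L := Algebra.TensorProduct.includeLeft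
  have hι : Function.Injective ιK := by
    show Function.Injective (algebraMap K L)
    exact RingHom.injective _
  let cL : B →ₐ[A] L := (Algebra.TensorProduct.includeRight : C →ₐ[A] L).comp Algebra.TensorProduct.includeLeft
  let cR : B' →ₐ[A] L := (Algebra.TensorProduct.includeRight : C →ₐ[A] L).comp Algebra.TensorProduct.includeRight
  obtain ⟨g, hg⟩ := exists_div ha' (ε L (sh cL ≫ τ)) (sh cR ≫ τ')
  obtain ⟨hgA, rfl⟩ := exists_pt HG g
  obtain ⟨hg', hgfac⟩ := hfac Hc hgA
  obtain ⟨hb', hbfac⟩ := hfac B cL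
  obtain ⟨hc', hcfac⟩ := hfac B' cR
  let RC := C' ⊗[A] B
  let RL := L ⊗[A] B
  let iC : C' →ₐ[A] RC := Algebra.TensorProduct.includeLeft
  let p : B →ₐ[A] RC := Algebra.TensorProduct.includeRight
  obtain ⟨d, hd⟩ := exists_div ha (sh (j := j) (B := B) (C := RC) p ≫ τ) (sh (j := j) (B := B) (C := RC) (iC.comp hb') ≫ τ)
  let f' : sp j RC ⟶ P' := lift (d * (sh (B := Hc) (C := RC) (iC.comp hg') ≫ τG)) (sh (B := B') (C := RC) (iC.comp hc') ≫ τ') ≫ a'.act
  let v : RC →ₐ[A] RL := Algebra.TensorProduct.map val (AlgHom.id A B)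
  let iL : L →ₐ[A] RL := Algebra.TensorProduct.includeLeft
  let qK : K ⊗[A] B →ₐ[A] RL := Algebra.TensorProduct.map ιK (AlgHom.id A B)
  have hv : ∀ {D : Type u} [CommRing D] [Algebra A D] (h : D →ₐ[A] C'), v.comp (iC.comp h) = iL.comp (val.comp h) :=
    fun h => AlgHom.ext fun x => rfl
  have hvp : v.comp p = qK.comp (Algebra.TensorProduct.includeRight : B →ₐ[A] K ⊗[A] B) :=
    AlgHom.ext fun x => by
      show val 1 ⊗ₜ[A] x = ιK 1 ⊗ₜ[A] x
      rw [map_one, map_one]
  let p₀ : B →ₐ[A] K ⊗[A] B := Algebra.TensorProduct.includeRight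
  have key : sh (B := RC) (C := RL) v ≫ f' = sh (B := K ⊗[A] B) (C := RL) qK ≫ ε (K ⊗[A] B) (sh p₀ ≫ τ) := by
    rw [← hnat, ← Category.assoc (sh (B := K ⊗[A] B) (C := RL) qK), sh_comp]
    have e0 : sh (j := j) (B := RC) (C := RL) v ≫ f' = lift ((sh (B := RC) (C := RL) v ≫ d) * (sh (B := Hc) (C := RL) (iL.comp hgA) ≫ τG)) (sh (B := B') (C := RL) (iL.comp cR) ≫ τ') ≫ a'.act := by
      simp only [f', ← Category.assoc, comp_lift, MonObj.comp_mul]
      rw [sh_comp, sh_comp, hv, hv, hgfac, hcfac]
    have e1 : lift (sh (B := Hc) (C := RL) (iL.comp hgA) ≫ τG) (sh (B := B') (C := RL) (iL.comp cR) ≫ τ') ≫ a'.act = ε RL (sh (B := B) (C := RL) (iL.comp cL) ≫ τ) := by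
      have := congrArg (sh (j := j) (B := L) (C := RL) iL ≫ ·) hg
      simp only [comp_lift_assoc] at this
      rw [← Category.assoc, sh_comp, ← Category.assoc (sh (B := L) (C := RL) iL), sh_comp, ← hnat L RL iL, ← Category.assoc, sh_comp]
        at this
      exact this
    rw [e0, act_assoc, e1, ← hequiv]
    refine congrArg (ε RL) ?_
    rw [← hvp, ← sh_comp (j := j) (B := B) (C := RC) (D := RL) p v, Category.assoc, ← hd]
    simp only [comp_lift_assoc]
    rw [← Category.assoc (sh (B := RC) (C := RL) v), sh_comp, hv, hbfac]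
  obtain ⟨Φ, hΦ⟩ := exists_pt H' f'
  obtain ⟨ψ, hψ⟩ := exists_pt H' (ε (K ⊗[A] B) (sh p₀ ≫ τ))
  rw [← hΦ, ← hψ, ← Category.assoc, ← Category.assoc, sh_comp, sh_comp] at key
  have hΦψ := pt_injective H' key
  have hmem : ∀ b', ∃ b, p₀ b = ψ b' := fun b' =>
    exists_eq_of_integral B ιK hι val hval hint (ψ b') (Φ b') (congr($(hΦψ) b')).symm
  have hp₀ : Function.Injective p₀ :=
    Algebra.TensorProduct.includeRight_injective (IsFractionRing.injective A K)
  choose φ hφ using hmem
  let φ' : B' →ₐ[A] B :=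
    { toFun := φ
      map_one' := hp₀ (by rw [hφ, map_one, map_one])
      map_mul' := fun b b' => hp₀ (by rw [hφ, map_mul ψ, map_mul p₀, hφ, hφ])
      map_zero' := hp₀ (by rw [hφ, map_zero, map_zero])
      map_add' := fun b b' => hp₀ (by rw [hφ, map_add ψ, map_add p₀, hφ, hφ])
      commutes' := fun r => hp₀ (by rw [hφ, ψ.commutes, p₀.commutes]) }
  refine ⟨sh φ' ≫ τ', ?_⟩
  rw [← Category.assoc, sh_comp, ← hψ]
  congr 2
  exact AlgHom.ext hφ

end Groth.Agent.CechTorsorX.GenExtAlg
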