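import Groth.Agent.SchTorsor.Basic
import Groth.Prelude.Def_ActBC

/-! Classes of torsors: equality and triviality. -/

set_option autoImplicit false
universe u

open CategoryTheory MonoidalCategory CartesianMonoidalCategory MonObj GrpObj AlgebraicGeometry

namespace Groth.Agent.CechTorsorX.H1One

variable {S : Scheme.{u}} {G X X' X'' : Over S} [GrpObj G]

/-- Reflexivity. -/
def refl (a : AlgGrp.Action G X) : NonAbH1.EquivIso a a :=
  ⟨Iso.refl X, by simp⟩

/-- Symmetry. -/
def symm {a : AlgGrp.Action G X} {a' : AlgGrp.Action G X'} (e : NonAbH1.EquivIso a a') : NonAbH1.EquivIso a' a :=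
  ⟨e.iso.symm, by
    rw [Iso.symm_hom, Iso.comp_inv_eq, Category.assoc, e.comm, ← MonoidalCategory.whiskerLeft_comp_assoc,
      Iso.inv_hom_id, MonoidalCategory.whiskerLeft_id, Category.id_comp]⟩

/-- Transitivity. -/
def trans {a : AlgGrp.Action G X} {a' : AlgGrp.Action G X'} {a'' : AlgGrp.Action G X''}
    (e : NonAbH1.EquivIso a a') (e' : NonAbH1.EquivIso a' a'') : NonAbH1.EquivIso a a'' :=
  ⟨e.iso ≪≫ e'.iso, by
    rw [Iso.trans_hom, reassoc_of% e.comm, e'.comm, MonoidalCategory.whiskerLeft_comp_assoc]⟩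

variable {K : Precoverage Scheme.{u}}

theorem cl_eq_iff (P Q : NonAbH1.TorsorSch G K) : P.cl = Q.cl ↔ Nonempty (NonAbH1.EquivIso P.act Q.act) := by
  refine ⟨fun h => ?_, fun h => Quot.sound h⟩
  have := Quot.eqvGen_exact h
  clear h
  induction this with
  | rel _ _ h => exact h
  | refl x => exact ⟨refl x.act⟩
  | symm _ _ _ h => exact ⟨symm h.some⟩
  | trans _ _ _ _ _ h h' => exact ⟨trans h.some h'.some⟩

/-- The trivial class has a section. -/
theorem hasSection_of_cl_eq_one [K.HasIsos] {P : NonAbH1.TorsorSch G K} (h : P.cl = 1) :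
    NonAbH1.HasSectionOver P.X (𝟙 S) := by
  obtain ⟨e⟩ := (cl_eq_iff _ _).1 h
  exact ⟨(η[G] ≫ e.iso.inv).left, Over.w (η[G] ≫ e.iso.inv)⟩

/-- An fpqc torsor with a section is trivial. -/
theorem equivIso_trivial {a : AlgGrp.Action G X} (ha : NonAbH1.IsTorsorFor Scheme.fpqcPrecoverage a)
    (h : NonAbH1.HasSectionOver X (𝟙 S)) : Nonempty (NonAbH1.EquivIso a (NonAbH1.trivialAction G)) := by
  obtain ⟨s, hs⟩ := h
  let σ : 𝟙_ (Over S) ⟶ X := Over.homMk s hs
  let f : G ⟶ X := lift (𝟙 G) (toUnit G ≫ σ) ≫ a.act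
  have hμ : μ[G] = fst G G * snd G G := by rw [Hom.mul_def, lift_fst_snd, Category.id_comp]
  have hf : μ[G] ≫ f = (G ◁ f) ≫ a.act := by
    have e : G ◁ f = lift (fst G G) (snd G G ≫ f) := by
      apply CartesianMonoidalCategory.hom_ext <;> simp
    rw [e, hμ]
    simp only [f, comp_lift_assoc, Category.comp_id]
    rw [← Category.assoc, toUnit_unique ((fst G G * snd G G) ≫ toUnit G) (toUnit _),
      ← Category.assoc (snd G G), toUnit_unique (snd G G ≫ toUnit G) (toUnit _)]
    exact SchTorsor.act_assoc a _ _ _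
  haveI : IsIso f := SchTorsor.isIso_of_equivariant (NonAbH1.isTorsorFor_trivialAction G _) ha.1 f hf
  exact ⟨symm ⟨asIso f, hf⟩⟩

end Groth.Agent.CechTorsorX.H1One
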