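import Groth.Agent.SchTorsor.Props
import Groth.Agent.EtFound.FinitePoints
import Groth.Prelude.Def_ActBC
import Mathlib

/-! Fibre products of pointed torsors under finite group schemes over a field. -/

set_option autoImplicit false
set_option backward.isDefEq.respectTransparency false
set_option backward.isDefEq.respectTransparency.types false
set_option linter.style.haveILetI false
universe u

open CategoryTheory CategoryTheory.Limits MonoidalCategory CartesianMonoidalCategory MonObj GrpObj AlgebraicGeometry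
open TopologicalSpace

noncomputable section

namespace Groth.Agent.CechTorsorX.PointedHom

open Groth.Agent.SchTorsor

variable {S : Scheme.{u}} {G G₁ G₂ : Over S} [GrpObj G] [GrpObj G₁] [GrpObj G₂] {T T₁ T₂ : Over S}

/-- An equivariant map on points. -/
theorem equivariant_pt {a : AlgGrp.Action G T} {a₁ : AlgGrp.Action G₁ T₁} {φ₁ : G₁ ⟶ G} [IsMonHom φ₁] {f₁ : T₁ ⟶ T}
    (h : AlgGrp.Action.IsEquivariant a₁ (a.restrict φ₁) f₁) {Y : Over S} (g : Y ⟶ G₁) (x : Y ⟶ T₁) :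
    (lift g x ≫ a₁.act) ≫ f₁ = lift (g ≫ φ₁) (x ≫ f₁) ≫ a.act := by
  rw [Category.assoc, h, AlgGrp.Action.restrict_act, lift_whiskerLeft_assoc, lift_whiskerRight_assoc]

/-- Points that differ by the images of the two groups can be moved into the fibre product. -/
theorem exists_pullback_pt {a : AlgGrp.Action G T} {a₁ : AlgGrp.Action G₁ T₁} {a₂ : AlgGrp.Action G₂ T₂}
    {φ₁ : G₁ ⟶ G} {φ₂ : G₂ ⟶ G} [IsMonHom φ₁] [IsMonHom φ₂] {f₁ : T₁ ⟶ T} {f₂ : T₂ ⟶ T}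
    (hf₁ : AlgGrp.Action.IsEquivariant a₁ (a.restrict φ₁) f₁) (hf₂ : AlgGrp.Action.IsEquivariant a₂ (a.restrict φ₂) f₂)
    {Y : Over S} (t₁ : Y ⟶ T₁) (t₂ : Y ⟶ T₂) (d : Y ⟶ G) (hd : lift d (t₂ ≫ f₂) ≫ a.act = t₁ ≫ f₁)
    (u : Y ⟶ G₁) (v : Y ⟶ G₂) (huv : d = (u ≫ φ₁) * (v ≫ φ₂)⁻¹) : Nonempty (Y ⟶ pullback f₁ f₂) := by
  refine ⟨pullback.lift (lift u⁻¹ t₁ ≫ a₁.act) (lift v⁻¹ t₂ ≫ a₂.act) ?_⟩
  rw [equivariant_pt hf₁, equivariant_pt hf₂, GrpObj.inv_comp, GrpObj.inv_comp, ← hd, ← act_assoc, huv,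
    inv_mul_cancel_left]

variable {k : Type u} [Field k] {X : Scheme.{u}} [ConnectedSpace X] (s : X ⟶ Spec (CommRingCat.of k))
  {G₀ G₀₁ G₀₂ : Over (Spec (CommRingCat.of k))} [GrpObj G₀] [GrpObj G₀₁] [GrpObj G₀₂]
  [IsFinite G₀.hom] [IsFinite G₀₁.hom] [IsFinite G₀₂.hom]
  {T T₁ T₂ : Over X} {a : AlgGrp.Action (Red.bc s G₀) T} {a₁ : AlgGrp.Action (Red.bc s G₀₁) T₁}
  {a₂ : AlgGrp.Action (Red.bc s G₀₂) T₂}
  {φ₁ : G₀₁ ⟶ G₀} {φ₂ : G₀₂ ⟶ G₀} [IsMonHom φ₁] [IsMonHom φ₂]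

/-- Through every point passes a geometric point of the fibre product. -/
theorem exists_geometric_point (hT : NonAbH1.IsPseudoTorsorSch a)
    (hT₁ : NonAbH1.IsTorsorFor Scheme.fppfPrecoverage a₁) (hT₂ : NonAbH1.IsTorsorFor Scheme.fppfPrecoverage a₂)
    {f₁ : T₁ ⟶ T} {f₂ : T₂ ⟶ T}
    (hf₁ : AlgGrp.Action.IsEquivariant a₁ (a.restrict ((Over.pullback s).map φ₁)) f₁)
    (hf₂ : AlgGrp.Action.IsEquivariant a₂ (a.restrict ((Over.pullback s).map φ₂)) f₂)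
    (x₀ : Spec (CommRingCat.of k) ⟶ X) (hx₀ : x₀ ≫ s = 𝟙 _) (t₁ : Spec (CommRingCat.of k) ⟶ T₁.left)
    (t₂ : Spec (CommRingCat.of k) ⟶ T₂.left) (h₁ : t₁ ≫ T₁.hom = x₀) (h₂ : t₂ ≫ T₂.hom = x₀)
    (ht : t₁ ≫ f₁.left = t₂ ≫ f₂.left) (x : X) :
    ∃ (Ω : Type u) (_ : Field Ω) (_ : IsAlgClosed Ω) (y : Spec (CommRingCat.of Ω) ⟶ X),
      y default = x ∧ Nonempty (Over.mk y ⟶ pullback f₁ f₂) := by
  have toFpqc : ∀ {H : Over X} [GrpObj H] {Y : Over X} {b : AlgGrp.Action H Y},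
      NonAbH1.IsTorsorFor Scheme.fppfPrecoverage b → NonAbH1.IsTorsorFor Scheme.fpqcPrecoverage b :=
    fun h => ⟨h.1, h.2.imp fun R hR => ⟨Scheme.fppfPrecoverage_le_fpqcPrecoverage _ hR.1, hR.2⟩⟩
  haveI : MorphismProperty.DescendsAlong @IsFinite (@Surjective ⊓ @Flat ⊓ @QuasiCompact : MorphismProperty Scheme.{u}) :=
    EtFound.fpqc_isFinite
  haveI hfin : ∀ H : Over (Spec (CommRingCat.of k)), IsFinite H.hom → IsFinite (Red.bc s H).hom :=
    fun H hH => MorphismProperty.pullback_snd H.hom s hH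
  haveI : IsFinite T₁.hom := torsor_property @IsFinite (toFpqc hT₁) (hfin _ inferInstance)
  haveI : IsFinite T₂.hom := torsor_property @IsFinite (toFpqc hT₂) (hfin _ inferInstance)
  haveI hfl : ∀ H : Over (Spec (CommRingCat.of k)), Flat H.hom ∧ LocallyOfFinitePresentation H.hom →
      Flat (Red.bc s H).hom ∧ LocallyOfFinitePresentation (Red.bc s H).hom :=
    fun H hH => ⟨MorphismProperty.pullback_snd H.hom s hH.1, MorphismProperty.pullback_snd H.hom s hH.2⟩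
  have hk : ∀ H : Over (Spec (CommRingCat.of k)), IsFinite H.hom → Flat H.hom ∧ LocallyOfFinitePresentation H.hom := by
    intro H hH
    exact ⟨inferInstance, inferInstance⟩
  haveI : Flat T₁.hom := torsor_property @Flat (toFpqc hT₁) (hfl _ (hk _ inferInstance)).1
  haveI : Flat T₂.hom := torsor_property @Flat (toFpqc hT₂) (hfl _ (hk _ inferInstance)).1
  haveI : LocallyOfFinitePresentation T₁.hom :=
    torsor_property @LocallyOfFinitePresentation (toFpqc hT₁) (hfl _ (hk _ inferInstance)).2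
  haveI : LocallyOfFinitePresentation T₂.hom :=
    torsor_property @LocallyOfFinitePresentation (toFpqc hT₂) (hfl _ (hk _ inferInstance)).2
  obtain ⟨d, hd⟩ := exists_div hT (fst T₁ T₂ ≫ f₁) (snd T₁ T₂ ≫ f₂)
  let π : (T₁ ⊗ T₂).left ⟶ G₀.left := d.left ≫ pullback.fst G₀.hom s
  let m : G₀₁ ⊗ G₀₂ ⟶ G₀ := (fst G₀₁ G₀₂ ≫ φ₁) * (snd G₀₁ G₀₂ ≫ φ₂)⁻¹
  haveI : DiscreteTopology G₀.left := by
    have h := isDiscrete_iff_discreteTopology.1 (G₀.hom.isDiscrete_preimage_singleton default)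
    have : G₀.hom ⁻¹' {default} = (Set.univ : Set G₀.left) := Set.eq_univ_of_forall fun p => Subsingleton.elim _ _
    rw [this] at h
    exact (Homeomorph.Set.univ G₀.left).discreteTopology
  let C : Set (T₁ ⊗ T₂).left := π ⁻¹' Set.range m.left
  have hCo : IsOpen C := (isOpen_discrete _).preimage π.continuous
  have hCc : IsClosed C := (isClosed_discrete _).preimage π.continuous
  haveI : IsFinite (T₁ ⊗ T₂).hom := inferInstanceAs (IsFinite (pullback.fst T₁.hom T₂.hom ≫ T₁.hom))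
  haveI : Flat (T₁ ⊗ T₂).hom := inferInstanceAs (Flat (pullback.fst T₁.hom T₂.hom ≫ T₁.hom))
  haveI : LocallyOfFinitePresentation (T₁ ⊗ T₂).hom :=
    inferInstanceAs (LocallyOfFinitePresentation (pullback.fst T₁.hom T₂.hom ≫ T₁.hom))
  have himg : (T₁ ⊗ T₂).hom '' C = Set.univ := by
    refine IsClopen.eq_univ ⟨(T₁ ⊗ T₂).hom.isClosedMap _ hCc, (T₁ ⊗ T₂).hom.isOpenMap _ hCo⟩ ?_
    let z₀ : Over.mk x₀ ⟶ T₁ ⊗ T₂ := lift (Over.homMk t₁ h₁) (Over.homMk t₂ h₂)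
    refine ⟨_, z₀.left (default : Spec (CommRingCat.of k)), ?_, rfl⟩
    have hd₀ : z₀ ≫ d = 1 := by
      refine act_free hT (y := (z₀ ≫ snd T₁ T₂) ≫ f₂) ?_
      rw [one_act_pt, Category.assoc, ← comp_lift_assoc, hd, ← Category.assoc, lift_fst, ← Category.assoc, lift_snd]
      exact Over.OverMorphism.ext ht
    let e : Over.mk x₀ ⟶ Red.bc s G₀ := (Over.mapPullbackAdj s).homEquiv (Over.mk x₀) G₀ 1
    have he : (1 : Over.mk x₀ ⟶ Red.bc s G₀) = e := by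
      have h := AlgGrp.Action.homEquiv_mul s (1 : (Over.map s).obj (Over.mk x₀) ⟶ G₀) 1
      rw [_root_.one_mul] at h
      exact (mul_eq_left.mp h.symm).symm
    refine ⟨(1 : (Over.map s).obj (Over.mk x₀) ⟶ G₀₁ ⊗ G₀₂).left (default : Spec (CommRingCat.of k)), ?_⟩
    have hm1 : (1 : (Over.map s).obj (Over.mk x₀) ⟶ G₀₁ ⊗ G₀₂) ≫ m = 1 := by
      have e1 : (1 : (Over.map s).obj (Over.mk x₀) ⟶ G₀₁ ⊗ G₀₂) ≫ fst G₀₁ G₀₂ = 1 := MonObj.one_comp _
      have e2 : (1 : (Over.map s).obj (Over.mk x₀) ⟶ G₀₁ ⊗ G₀₂) ≫ snd G₀₁ G₀₂ = 1 := MonObj.one_comp _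
      rw [MonObj.comp_mul, GrpObj.comp_inv, ← Category.assoc, ← Category.assoc, e1, e2, MonObj.one_comp,
        MonObj.one_comp, inv_one, _root_.mul_one]
    rw [← Scheme.Hom.comp_apply, ← Over.comp_left, hm1, ← Scheme.Hom.comp_apply]
    refine congrArg (fun f : Spec (CommRingCat.of k) ⟶ G₀.left => f default) ?_
    show _ = z₀.left ≫ d.left ≫ pullback.fst G₀.hom s
    rw [← Category.assoc, ← Over.comp_left, hd₀, he]
    simp [e, Over.mapPullbackAdj, Adjunction.mkOfHomEquiv_homEquiv]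
  obtain ⟨z, hzC, rfl⟩ := himg.ge (Set.mem_univ x)
  obtain ⟨w, hw⟩ := hzC
  let Ω := AlgebraicClosure ((T₁ ⊗ T₂).left.residueField z)
  let zb : Spec (CommRingCat.of Ω) ⟶ (T₁ ⊗ T₂).left :=
    Spec.map (CommRingCat.ofHom (algebraMap ((T₁ ⊗ T₂).left.residueField z) Ω)) ≫ (T₁ ⊗ T₂).left.fromSpecResidueField z
  have hzb : zb default = z := by
    show ((_ : Spec (CommRingCat.of Ω) ⟶ Spec ((T₁ ⊗ T₂).left.residueField z)) ≫ (T₁ ⊗ T₂).left.fromSpecResidueField z) default = z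
    rw [Scheme.Hom.comp_apply]
    exact Scheme.fromSpecResidueField_apply _ _
  haveI : IsFinite (G₀₁ ⊗ G₀₂).hom := inferInstanceAs (IsFinite (pullback.fst G₀₁.hom G₀₂.hom ≫ G₀₁.hom))
  haveI : IsFinite m.left := by
    haveI : IsFinite (m.left ≫ G₀.hom) := (Over.w m).symm ▸ inferInstance
    exact IsFinite.of_comp m.left G₀.hom
  obtain ⟨l, hl, -⟩ := EtFound.exists_fac_of_integral m.left (zb ≫ π) w (by
    rw [Scheme.Hom.comp_apply, hzb]
    exact hw)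
  refine ⟨Ω, inferInstance, inferInstance, zb ≫ (T₁ ⊗ T₂).hom, by rw [Scheme.Hom.comp_apply, hzb], ?_⟩
  let Y : Over X := Over.mk (zb ≫ (T₁ ⊗ T₂).hom)
  let zY : Y ⟶ T₁ ⊗ T₂ := Over.homMk zb rfl
  let dY : (Over.map s).obj Y ⟶ G₀ := ((Over.mapPullbackAdj s).homEquiv Y G₀).symm (zY ≫ d)
  have hdY : dY.left = zb ≫ π := by
    simp [dY, zY, π, Over.mapPullbackAdj, Adjunction.mkOfHomEquiv_homEquiv]
  let lY : (Over.map s).obj Y ⟶ G₀₁ ⊗ G₀₂ := Over.homMk l (by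
    rw [← Over.w m, ← Category.assoc, hl, ← hdY]
    exact Over.w dY)
  refine exists_pullback_pt hf₁ hf₂ (zY ≫ fst _ _) (zY ≫ snd _ _) (zY ≫ d) ?_
    ((Over.mapPullbackAdj s).homEquiv Y G₀₁ (lY ≫ fst _ _)) ((Over.mapPullbackAdj s).homEquiv Y G₀₂ (lY ≫ snd _ _)) ?_
  · refine Eq.trans ?_ ((congrArg (zY ≫ ·) hd).trans (Category.assoc _ _ _).symm)
    exact (congrArg (fun q => lift (zY ≫ d) q ≫ a.act) (Category.assoc _ _ _)).trans (comp_lift_assoc _ _ _ _).symm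
  · have h1 : dY = (lY ≫ fst _ _ ≫ φ₁) * (lY ≫ snd _ _ ≫ φ₂)⁻¹ := by
      rw [← GrpObj.comp_inv, ← MonObj.comp_mul]
      exact Over.OverMorphism.ext (hdY.trans hl.symm)
    have hinv : ∀ g : (Over.map s).obj Y ⟶ G₀, (Over.mapPullbackAdj s).homEquiv Y G₀ g⁻¹ =
        ((Over.mapPullbackAdj s).homEquiv Y G₀ g)⁻¹ := fun g => by
      refine eq_inv_of_mul_eq_one_left ?_
      rw [← AlgGrp.Action.homEquiv_mul, inv_mul_cancel]
      have h := AlgGrp.Action.homEquiv_mul s (1 : (Over.map s).obj Y ⟶ G₀) 1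
      rw [_root_.one_mul] at h
      exact mul_eq_left.mp h.symm
    rw [← Adjunction.homEquiv_naturality_right, ← Adjunction.homEquiv_naturality_right, Category.assoc lY, Category.assoc lY,
      ← hinv, ← AlgGrp.Action.homEquiv_mul, ← h1, Equiv.apply_symm_apply]

end Groth.Agent.CechTorsorX.PointedHom
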