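import Groth.Agent.CechTorsorX.PointedHom
import Groth.Agent.CechTorsorX.GenExtAlg
import Groth.Agent.S6266
import Mathlib.AlgebraicGeometry.Sites.Fpqc

/-! The fibre product of pointed torsors over a reduced connected base is a torsor. -/

set_option autoImplicit false
set_option backward.isDefEq.respectTransparency false
set_option backward.isDefEq.respectTransparency.types false
set_option linter.style.haveILetI false
universe u

open CategoryTheory CategoryTheory.Limits MonoidalCategory CartesianMonoidalCategory MonObj GrpObj AlgebraicGeometry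
open TensorProduct

noncomputable section

namespace Groth.Agent.CechTorsorX.PointedHomTorsor

open Groth.Agent.SchTorsor

section Formal

variable {S : Scheme.{u}} {G G₁ G₂ P : Over S} [GrpObj G] [GrpObj G₁] [GrpObj G₂] [GrpObj P] {T T₁ T₂ : Over S}
  (a : AlgGrp.Action G T) (a₁ : AlgGrp.Action G₁ T₁) (a₂ : AlgGrp.Action G₂ T₂)
  (φ₁ : G₁ ⟶ G) (φ₂ : G₂ ⟶ G) [IsMonHom φ₁] [IsMonHom φ₂] (π₁ : P ⟶ G₁) (π₂ : P ⟶ G₂) [IsMonHom π₁] [IsMonHom π₂]
  (w : π₁ ≫ φ₁ = π₂ ≫ φ₂) {f₁ : T₁ ⟶ T} {f₂ : T₂ ⟶ T}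
  (hf₁ : AlgGrp.Action.IsEquivariant a₁ (a.restrict φ₁) f₁) (hf₂ : AlgGrp.Action.IsEquivariant a₂ (a.restrict φ₂) f₂)

/-- The action morphism on the fibre product. -/
def pbAct : P ⊗ pullback f₁ f₂ ⟶ pullback f₁ f₂ :=
  pullback.lift (lift (fst P _ ≫ π₁) (snd P _ ≫ pullback.fst f₁ f₂) ≫ a₁.act)
    (lift (fst P _ ≫ π₂) (snd P _ ≫ pullback.snd f₁ f₂) ≫ a₂.act) (by
      rw [PointedHom.equivariant_pt hf₁, PointedHom.equivariant_pt hf₂]
      simp only [Category.assoc, w, pullback.condition])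

include w in
theorem pt_pbAct_fst {Y : Over S} (g : Y ⟶ P) (x : Y ⟶ pullback f₁ f₂) :
    lift g x ≫ pbAct a a₁ a₂ φ₁ φ₂ π₁ π₂ w hf₁ hf₂ ≫ pullback.fst f₁ f₂ =
      lift (g ≫ π₁) (x ≫ pullback.fst f₁ f₂) ≫ a₁.act := by
  rw [pbAct, pullback.lift_fst, comp_lift_assoc, lift_fst_assoc, lift_snd_assoc]

include w in
theorem pt_pbAct_snd {Y : Over S} (g : Y ⟶ P) (x : Y ⟶ pullback f₁ f₂) :
    lift g x ≫ pbAct a a₁ a₂ φ₁ φ₂ π₁ π₂ w hf₁ hf₂ ≫ pullback.snd f₁ f₂ =
      lift (g ≫ π₂) (x ≫ pullback.snd f₁ f₂) ≫ a₂.act := by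
  rw [pbAct, pullback.lift_snd, comp_lift_assoc, lift_fst_assoc, lift_snd_assoc]

include w in
theorem pt_assoc {Y : Over S} (g h : Y ⟶ P) (x : Y ⟶ pullback f₁ f₂) :
    lift (g * h) x ≫ pbAct a a₁ a₂ φ₁ φ₂ π₁ π₂ w hf₁ hf₂ =
      lift g (lift h x ≫ pbAct a a₁ a₂ φ₁ φ₂ π₁ π₂ w hf₁ hf₂) ≫ pbAct a a₁ a₂ φ₁ φ₂ π₁ π₂ w hf₁ hf₂ := by
  apply pullback.hom_ext
  · rw [Category.assoc, Category.assoc, pt_pbAct_fst, pt_pbAct_fst, MonObj.mul_comp, act_assoc, Category.assoc,
      pt_pbAct_fst]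
  · rw [Category.assoc, Category.assoc, pt_pbAct_snd, pt_pbAct_snd, MonObj.mul_comp, act_assoc, Category.assoc,
      pt_pbAct_snd]

include w in
theorem pt_one {Y : Over S} (x : Y ⟶ pullback f₁ f₂) :
    lift (1 : Y ⟶ P) x ≫ pbAct a a₁ a₂ φ₁ φ₂ π₁ π₂ w hf₁ hf₂ = x := by
  apply pullback.hom_ext
  · rw [Category.assoc, pt_pbAct_fst, MonObj.one_comp, one_act_pt]
  · rw [Category.assoc, pt_pbAct_snd, MonObj.one_comp, one_act_pt]

/-- The action on the fibre product. -/
def pbAction : AlgGrp.Action P (pullback f₁ f₂) where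
  act := pbAct a a₁ a₂ φ₁ φ₂ π₁ π₂ w hf₁ hf₂
  one_act := by
    have e : (η[P] ▷ pullback f₁ f₂) = lift (fst _ _ ≫ η[P]) (snd _ _) := by
      apply CartesianMonoidalCategory.hom_ext <;> simp
    rw [e, toUnit_unique (fst (𝟙_ (Over S)) (pullback f₁ f₂)) (toUnit _), ← Hom.one_def, pt_one]
    exact (leftUnitor_hom _).symm
  mul_act := by
    have e : (μ[P] ▷ pullback f₁ f₂) =
        lift ((fst (P ⊗ P) (pullback f₁ f₂) ≫ fst P P) * (fst (P ⊗ P) (pullback f₁ f₂) ≫ snd P P)) (snd _ _) := by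
      apply CartesianMonoidalCategory.hom_ext
      · rw [whiskerRight_fst, lift_fst, ← MonObj.comp_mul, Hom.mul_def, lift_fst_snd, Category.id_comp]
      · simp
    rw [e, pt_assoc]
    refine (congrArg (· ≫ _) ?_).trans (Category.assoc _ _ _)
    apply CartesianMonoidalCategory.hom_ext
    · simp
    · simp only [lift_snd, Category.assoc, whiskerLeft_snd]
      rw [← Category.assoc]
      congr 1
      apply CartesianMonoidalCategory.hom_ext <;> simp

/-- A pseudo-torsor from division and freeness on points. -/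
theorem isPseudoTorsor_of_points {H Q : Over S} [GrpObj H] (c : AlgGrp.Action H Q)
    (hdiv : ∀ (Y : Over S) (x y : Y ⟶ Q), ∃ g : Y ⟶ H, lift g y ≫ c.act = x)
    (hfree : ∀ (Y : Over S) (g h : Y ⟶ H) (y : Y ⟶ Q), lift g y ≫ c.act = lift h y ≫ c.act → g = h) :
    NonAbH1.IsPseudoTorsorSch c := by
  obtain ⟨g, hg⟩ := hdiv _ (fst Q Q) (snd Q Q)
  refine ⟨lift g (snd Q Q), ?_, ?_⟩
  · apply CartesianMonoidalCategory.hom_ext
    · rw [Category.assoc, lift_fst, Category.id_comp]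
      refine hfree _ _ _ (snd H Q) ?_
      have h1 := congrArg (fun t => lift c.act (snd H Q) ≫ t) hg
      simp only [comp_lift_assoc, lift_fst, lift_snd] at h1
      rw [h1, lift_fst_snd, Category.id_comp]
    · simp
  · apply CartesianMonoidalCategory.hom_ext
    · rw [Category.assoc, lift_fst, Category.id_comp, hg]
    · simp

theorem pbAction_isPseudoTorsor (ha : NonAbH1.IsPseudoTorsorSch a) (h₁ : NonAbH1.IsPseudoTorsorSch a₁)
    (h₂ : NonAbH1.IsPseudoTorsorSch a₂) (hP : IsPullback π₁ π₂ φ₁ φ₂) :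
    NonAbH1.IsPseudoTorsorSch (pbAction a a₁ a₂ φ₁ φ₂ π₁ π₂ w hf₁ hf₂) := by
  refine isPseudoTorsor_of_points _ (fun Y x y => ?_) (fun Y g h y e => ?_)
  · obtain ⟨g₁, hg₁⟩ := exists_div h₁ (x ≫ pullback.fst f₁ f₂) (y ≫ pullback.fst f₁ f₂)
    obtain ⟨g₂, hg₂⟩ := exists_div h₂ (x ≫ pullback.snd f₁ f₂) (y ≫ pullback.snd f₁ f₂)
    have hg : g₁ ≫ φ₁ = g₂ ≫ φ₂ := by
      refine act_free ha (y := y ≫ pullback.fst f₁ f₂ ≫ f₁) ?_
      conv_lhs => rw [← Category.assoc y, ← PointedHom.equivariant_pt hf₁, hg₁, Category.assoc, pullback.condition]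
      conv_rhs => rw [pullback.condition, ← Category.assoc y, ← PointedHom.equivariant_pt hf₂, hg₂, Category.assoc]
    refine ⟨hP.lift g₁ g₂ hg, ?_⟩
    apply pullback.hom_ext
    · rw [Category.assoc]
      refine (pt_pbAct_fst a a₁ a₂ φ₁ φ₂ π₁ π₂ w hf₁ hf₂ _ y).trans ?_
      rw [hP.lift_fst, hg₁]
    · rw [Category.assoc]
      refine (pt_pbAct_snd a a₁ a₂ φ₁ φ₂ π₁ π₂ w hf₁ hf₂ _ y).trans ?_
      rw [hP.lift_snd, hg₂]
  · refine hP.hom_ext ?_ ?_
    · refine act_free h₁ (y := y ≫ pullback.fst f₁ f₂) ?_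
      rw [← pt_pbAct_fst a a₁ a₂ φ₁ φ₂ π₁ π₂ w hf₁ hf₂ g y, ← pt_pbAct_fst a a₁ a₂ φ₁ φ₂ π₁ π₂ w hf₁ hf₂ h y,
        ← Category.assoc, ← Category.assoc]
      exact congrArg (· ≫ pullback.fst f₁ f₂) e
    · refine act_free h₂ (y := y ≫ pullback.snd f₁ f₂) ?_
      rw [← pt_pbAct_snd a a₁ a₂ φ₁ φ₂ π₁ π₂ w hf₁ hf₂ g y, ← pt_pbAct_snd a a₁ a₂ φ₁ φ₂ π₁ π₂ w hf₁ hf₂ h y,
        ← Category.assoc, ← Category.assoc]
      exact congrArg (· ≫ pullback.snd f₁ f₂) e

theorem isEquivariant_fst : AlgGrp.Action.IsEquivariant (pbAction a a₁ a₂ φ₁ φ₂ π₁ π₂ w hf₁ hf₂) (a₁.restrict π₁)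
    (pullback.fst f₁ f₂) := by
  unfold AlgGrp.Action.IsEquivariant
  refine (pullback.lift_fst _ _ _).trans ?_
  rw [AlgGrp.Action.restrict_act, ← Category.assoc]
  congr 1
  apply CartesianMonoidalCategory.hom_ext <;> simp

theorem isEquivariant_snd : AlgGrp.Action.IsEquivariant (pbAction a a₁ a₂ φ₁ φ₂ π₁ π₂ w hf₁ hf₂) (a₂.restrict π₂)
    (pullback.snd f₁ f₂) := by
  unfold AlgGrp.Action.IsEquivariant
  refine (pullback.lift_snd _ _ _).trans ?_
  rw [AlgGrp.Action.restrict_act, ← Category.assoc]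
  congr 1
  apply CartesianMonoidalCategory.hom_ext <;> simp

end Formal

section Rank

open Groth.Agent.CechTorsorX.ZariskiTriv Groth.Agent.CechTorsorX.GenExtAlg

variable {X : Scheme.{u}} {A : Type u} [CommRing A] {j : Spec (CommRingCat.of A) ⟶ X}
  {H Q : Over X} [GrpObj H] {c : AlgGrp.Action H Q}

/-- A pseudo-torsor with a point over an algebra looks like the group there. -/
theorem nonempty_linearEquiv (hc : NonAbH1.IsPseudoTorsorSch c)
    {B : Type u} [CommRing B] [Algebra A B] {τ : sp j B ⟶ Q}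
    (hB : IsPullback τ.left (Spec.map (CommRingCat.ofHom (algebraMap A B))) Q.hom j)
    {C : Type u} [CommRing C] [Algebra A C] {σ : sp j C ⟶ H}
    (hC : IsPullback σ.left (Spec.map (CommRingCat.ofHom (algebraMap A C))) H.hom j)
    (Ω : Type u) [CommRing Ω] [Algebra A Ω] (z : sp j Ω ⟶ Q) :
    Nonempty (Ω ⊗[A] B ≃ₗ[Ω] Ω ⊗[A] C) := by
  let iB : B →ₐ[A] Ω ⊗[A] B := Algebra.TensorProduct.includeRight
  let iC : C →ₐ[A] Ω ⊗[A] C := Algebra.TensorProduct.includeRight
  let oB : Ω →ₐ[A] Ω ⊗[A] B := Algebra.TensorProduct.includeLeft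
  let oC : Ω →ₐ[A] Ω ⊗[A] C := Algebra.TensorProduct.includeLeft
  obtain ⟨u, hu⟩ := exists_pt hB (lift (sh (j := j) (B := C) (C := Ω ⊗[A] C) iC ≫ σ)
    (sh (j := j) (B := Ω) (C := Ω ⊗[A] C) oC ≫ z) ≫ c.act)
  obtain ⟨g, hg⟩ := exists_div hc (sh (j := j) (B := B) (C := Ω ⊗[A] B) iB ≫ τ)
    (sh (j := j) (B := Ω) (C := Ω ⊗[A] B) oB ≫ z)
  obtain ⟨v, rfl⟩ := exists_pt hC g
  let U : Ω ⊗[A] B →ₐ[Ω] Ω ⊗[A] C := Algebra.TensorProduct.lift (Algebra.ofId Ω _) u fun _ _ => .all _ _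
  let V : Ω ⊗[A] C →ₐ[Ω] Ω ⊗[A] B := Algebra.TensorProduct.lift (Algebra.ofId Ω _) v fun _ _ => .all _ _
  have hUi : (U.restrictScalars A).comp iB = u := AlgHom.ext fun b => by simp [U, iB]
  have hVi : (V.restrictScalars A).comp iC = v := AlgHom.ext fun b => by simp [V, iC]
  have hUo : (U.restrictScalars A).comp oB = oC := AlgHom.ext fun b => by simp [U, oB, oC]
  have hVo : (V.restrictScalars A).comp oC = oB := AlgHom.ext fun b => by simp [V, oB, oC]
  have h1 : (U.restrictScalars A).comp v = iC := by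
    refine pt_injective hC (act_free hc (y := sh (j := j) (B := Ω) (C := Ω ⊗[A] C) oC ≫ z) ?_)
    have h := congrArg (sh (j := j) (B := Ω ⊗[A] B) (C := Ω ⊗[A] C) (U.restrictScalars A) ≫ ·) hg
    simp only [comp_lift_assoc] at h
    rw [← Category.assoc (sh (B := Ω ⊗[A] B) (C := Ω ⊗[A] C) (U.restrictScalars A)), sh_comp,
      ← Category.assoc (sh (B := Ω ⊗[A] B) (C := Ω ⊗[A] C) (U.restrictScalars A)), sh_comp,
      ← Category.assoc (sh (B := Ω ⊗[A] B) (C := Ω ⊗[A] C) (U.restrictScalars A)), sh_comp, hUo, hUi, hu] at h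
    exact h
  have h2 : (V.restrictScalars A).comp u = iB := by
    refine pt_injective hB ?_
    rw [← sh_comp (j := j) (B := B) (C := Ω ⊗[A] C) (D := Ω ⊗[A] B) u (V.restrictScalars A), Category.assoc, hu,
      ← hg, comp_lift_assoc, ← Category.assoc (sh (B := Ω ⊗[A] C) (C := Ω ⊗[A] B) (V.restrictScalars A)), sh_comp,
      ← Category.assoc (sh (B := Ω ⊗[A] C) (C := Ω ⊗[A] B) (V.restrictScalars A)), sh_comp, hVo, hVi]
  refine ⟨(AlgEquiv.ofAlgHom U V ?_ ?_).toLinearEquiv⟩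
  · refine Algebra.TensorProduct.ext (by ext) (AlgHom.ext fun x => ?_)
    simpa [U, V, iC, ← Algebra.TensorProduct.one_def] using congr($(h1) x)
  · refine Algebra.TensorProduct.ext (by ext) (AlgHom.ext fun x => ?_)
    simpa [U, V, iB, ← Algebra.TensorProduct.one_def] using congr($(h2) x)

end Rank

section Main

open Groth.Agent.CechTorsorX.ZariskiTriv Groth.Agent.CechTorsorX.GenExtAlg

/-- A finite pseudo-torsor under a finite locally free group over a reduced base with geometric points in all fibres is a torsor. -/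
theorem isTorsor_of_geometric_points {X : Scheme.{u}} [AlgebraicGeometry.IsReduced X] {H Q : Over X} [GrpObj H]
    [IsFinite H.hom] [Flat H.hom] [LocallyOfFinitePresentation H.hom] [IsFinite Q.hom]
    (c : AlgGrp.Action H Q) (hc : NonAbH1.IsPseudoTorsorSch c)
    (hpt : ∀ x : X, ∃ (Ω : Type u) (_ : Field Ω) (y : Spec (CommRingCat.of Ω) ⟶ X),
      y default = x ∧ Nonempty (Over.mk y ⟶ Q)) :
    NonAbH1.IsTorsorFor Scheme.fppfPrecoverage c := by
  haveI : Surjective Q.hom := ⟨fun x => by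
    obtain ⟨Ω, _, y, hy, ⟨p⟩⟩ := hpt x
    exact ⟨p.left (default : Spec (CommRingCat.of Ω)), by rw [← Scheme.Hom.comp_apply, Over.w p]; exact hy⟩⟩
  have key : ∀ x : X, ∃ U : X.Opens, x ∈ U ∧ Flat (pullback.snd Q.hom U.ι) ∧
      LocallyOfFinitePresentation (pullback.snd Q.hom U.ι) := by
    intro x
    obtain ⟨U, hU, hxU, -⟩ := exists_isAffineOpen_mem_and_subset (X := X) (x := x) (U := ⊤) trivial
    refine ⟨U, hxU, ?_⟩
    haveI : _root_.IsReduced Γ(X, U) := inferInstance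
    obtain ⟨B, _, _, τ, hB⟩ := exists_coord (A := Γ(X, U)) Q hU.fromSpec
    obtain ⟨C, _, _, σ, hC⟩ := exists_coord (A := Γ(X, U)) H hU.fromSpec
    haveI := module_finite hB
    haveI := module_finite hC
    haveI : Module.Flat Γ(X, U) C := RingHom.flat_algebraMap_iff.1
      ((HasRingHomProperty.Spec_iff (P := @Flat)).1 (MorphismProperty.of_isPullback hC inferInstance))
    haveI : Algebra.FinitePresentation Γ(X, U) C := RingHom.finitePresentation_algebraMap.1
      ((HasRingHomProperty.Spec_iff (P := @LocallyOfFinitePresentation)).1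
        (MorphismProperty.of_isPullback hC inferInstance))
    haveI : Module.FinitePresentation Γ(X, U) C := Module.FinitePresentation.of_finite_of_finitePresentation _ _
    haveI : Module.Projective Γ(X, U) C := Module.Flat.projective_of_finitePresentation
    have hCc := ((S6266.result Γ(X, U) C).1 ⟨inferInstance, inferInstance⟩).2
    have hrank : ∀ p : PrimeSpectrum Γ(X, U),
        Module.finrank p.asIdeal.ResidueField (p.asIdeal.ResidueField ⊗[Γ(X, U)] B) =
          Module.finrank p.asIdeal.ResidueField (p.asIdeal.ResidueField ⊗[Γ(X, U)] C) := by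
      intro p
      obtain ⟨Ω, _, y, hy, ⟨z⟩⟩ := hpt (hU.fromSpec p)
      have hr : Set.range y ⊆ Set.range hU.fromSpec := by
        rintro _ ⟨t, rfl⟩
        rw [Subsingleton.elim t default, hy]
        exact ⟨p, rfl⟩
      obtain ⟨φ, hφ⟩ := Spec.map_surjective (IsOpenImmersion.lift hU.fromSpec y hr)
      have hφy : Spec.map φ ≫ hU.fromSpec = y := by rw [hφ, IsOpenImmersion.lift_fac]
      subst hφy
      letI : Algebra Γ(X, U) Ω := φ.hom.toAlgebra
      obtain ⟨e⟩ := nonempty_linearEquiv hc hB hC Ω (Over.homMk z.left (Over.w z) : sp hU.fromSpec Ω ⟶ Q)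
      have hp : (Spec.map φ) (default : Spec (CommRingCat.of Ω)) = p :=
        hU.fromSpec.isOpenEmbedding.injective ((Scheme.Hom.comp_apply _ _ _).symm.trans hy)
      have hker : RingHom.ker φ.hom = p.asIdeal := by
        rw [← hp]
        show _ = Ideal.comap φ.hom (default : Spec (CommRingCat.of Ω)).asIdeal
        rw [show (default : Spec (CommRingCat.of Ω)).asIdeal = ⊥ from
          ((Ideal.eq_bot_or_top _).resolve_right ((default : Spec (CommRingCat.of Ω)).2.ne_top))]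
        rfl
      let ψ : p.asIdeal.ResidueField →+* Ω := Ideal.ResidueField.lift p.asIdeal φ.hom hker.ge (fun r hr' => by
        refine IsUnit.mk0 _ fun h0 => hr' ?_
        rw [← hker]
        exact h0)
      letI : Algebra p.asIdeal.ResidueField Ω := ψ.toAlgebra
      haveI : IsScalarTower Γ(X, U) p.asIdeal.ResidueField Ω := IsScalarTower.of_algebraMap_eq fun r => by
        simp [RingHom.algebraMap_toAlgebra, ψ]
      have hb := fun (D : Type u) [CommRing D] [Algebra Γ(X, U) D] =>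
        (TensorProduct.AlgebraTensorModule.cancelBaseChange Γ(X, U) p.asIdeal.ResidueField Ω Ω D).finrank_eq.symm.trans
          Module.finrank_baseChange
      rw [← hb B, ← hb C, e.finrank_eq]
    obtain ⟨-, hproj⟩ := (S6266.result Γ(X, U) B).2 ⟨inferInstance, by simpa only [hrank] using hCc⟩
    haveI : Module.FinitePresentation Γ(X, U) B := Module.finitePresentation_of_projective _ B
    haveI : Algebra.FinitePresentation Γ(X, U) B := Algebra.FinitePresentation.of_finitePresentation Γ(X, U) B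
    let e : pullback Q.hom U.ι ⟶ pullback Q.hom hU.fromSpec :=
      pullback.map _ _ _ _ (𝟙 _) hU.isoSpec.hom (𝟙 _) (by simp) (by simp)
    haveI : Flat (Spec.map (CommRingCat.ofHom (algebraMap Γ(X, U) B))) :=
      (HasRingHomProperty.Spec_iff (P := @Flat)).2 (RingHom.flat_algebraMap_iff.2 inferInstance)
    haveI : LocallyOfFinitePresentation (Spec.map (CommRingCat.ofHom (algebraMap Γ(X, U) B))) :=
      (HasRingHomProperty.Spec_iff (P := @LocallyOfFinitePresentation)).2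
        (RingHom.finitePresentation_algebraMap.2 inferInstance)
    have h : IsPullback (pullback.fst Q.hom U.ι) (pullback.snd Q.hom U.ι ≫ hU.isoSpec.hom) Q.hom hU.fromSpec := by
      refine (IsPullback.of_hasPullback Q.hom U.ι).of_iso (Iso.refl _) (Iso.refl _) hU.isoSpec (Iso.refl _) ?_ ?_ ?_ ?_ <;>
        simp
    have hiso : (h.isoIsPullback _ _ hB).hom ≫ Spec.map (CommRingCat.ofHom (algebraMap Γ(X, U) B)) =
        pullback.snd Q.hom U.ι ≫ hU.isoSpec.hom := IsPullback.isoIsPullback_hom_snd _ _ _ _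
    have e2 : pullback.snd Q.hom U.ι = (h.isoIsPullback _ _ hB).hom ≫
        Spec.map (CommRingCat.ofHom (algebraMap Γ(X, U) B)) ≫ hU.isoSpec.inv := by
      rw [← Category.assoc, hiso, Category.assoc, Iso.hom_inv_id, Category.comp_id]
    rw [e2]
    exact ⟨inferInstance, inferInstance⟩
  choose U hxU hfl hfp using key
  have hcov : ⨆ x, U x = ⊤ := top_le_iff.1 fun x _ => TopologicalSpace.Opens.mem_iSup.2 ⟨x, hxU x⟩
  haveI : Flat Q.hom := (IsZariskiLocalAtTarget.iff_of_openCover (P := @Flat)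
    (X.openCoverOfIsOpenCover U hcov)).2 fun x => hfl x
  haveI : LocallyOfFinitePresentation Q.hom := (IsZariskiLocalAtTarget.iff_of_openCover (P := @LocallyOfFinitePresentation)
    (X.openCoverOfIsOpenCover U hcov)).2 fun x => hfp x
  refine ⟨hc, Presieve.singleton Q.hom, Scheme.Hom.singleton_mem_fppfPrecoverage _, ?_⟩
  rintro _ _ ⟨⟩
  exact ⟨𝟙 _, Category.id_comp _⟩

end Main

end Groth.Agent.CechTorsorX.PointedHomTorsor
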