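import Groth.Agent.SchTorsor.NormalExt
import Mathlib.AlgebraicGeometry.ValuativeCriterion
import Mathlib.AlgebraicGeometry.SpreadingOut

/-! Sections of proper morphisms over bases with valuation local rings extend from the generic point. -/

set_option autoImplicit false
set_option backward.isDefEq.respectTransparency false
set_option backward.isDefEq.respectTransparency.types false
universe u

open CategoryTheory CategoryTheory.Limits AlgebraicGeometry TopologicalSpace

set_option linter.style.haveILetI false

namespace Groth.Agent.CechTorsorX.PrueferSection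

/-- A section over the generic point of a proper morphism extends if all local rings of the base are valuation rings. -/
theorem exists_section {X Y : Scheme.{u}} [AlgebraicGeometry.IsIntegral X] (g : Y ⟶ X) [IsProper g]
    (hX : ∀ x : X, ValuationRing (X.presheaf.stalk x))
    (t : Spec X.functionField ⟶ Y) (ht : t ≫ g = X.fromSpecStalk (genericPoint X)) :
    ∃ σ : X ⟶ Y, σ ≫ g = 𝟙 X ∧ X.fromSpecStalk (genericPoint X) ≫ σ = t := by
  have key : ∀ x : X, ∃ (U : X.Opens) (_ : x ∈ U) (f : U.toScheme ⟶ Y), f ≫ g = U.ι ∧
      ∀ z : Spec X.functionField ⟶ U.toScheme, z ≫ U.ι = X.fromSpecStalk (genericPoint X) → z ≫ f = t := by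
    intro x
    haveI := hX x
    have hsp := genericPoint_specializes x
    have halg : Spec.map (CommRingCat.ofHom (algebraMap (X.presheaf.stalk x) X.functionField)) ≫ X.fromSpecStalk x =
        X.fromSpecStalk (genericPoint X) :=
      Scheme.SpecMap_stalkSpecializes_fromSpecStalk hsp
    let C : ValuativeCommSq g :=
      { R := X.presheaf.stalk x
        K := X.functionField
        i₁ := t
        i₂ := X.fromSpecStalk x
        commSq := ⟨ht.trans halg.symm⟩ }
    have hE : ValuativeCriterion.Existence g := by
      have h : IsProper g := inferInstance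
      rw [IsProper.eq_valuativeCriterion] at h
      exact h.1.1.1.existence
    obtain ⟨⟨⟨l, hl1, hl2⟩⟩⟩ := hE C
    obtain ⟨U, hxU, f, hf, hfg⟩ := spread_out_of_isGermInjective' (𝟙 X) g l (hl2.trans (Category.comp_id _).symm)
    rw [Category.comp_id] at hfg
    refine ⟨U, hxU, f, hfg, fun z hz => ?_⟩
    have hz' : z = Spec.map (CommRingCat.ofHom (algebraMap (X.presheaf.stalk x) X.functionField)) ≫
        U.fromSpecStalkOfMem x hxU := by
      rw [← cancel_mono U.ι, hz, Category.assoc, Scheme.Opens.fromSpecStalkOfMem_ι]
      exact halg.symm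
    rw [hz', Category.assoc, ← hf]
    exact hl1
  choose U hxU f hf hft using key
  let 𝒰 : X.OpenCover :=
    { I₀ := X
      X := fun x => U x
      f := fun x => (U x).ι
      mem₀ := by
        rw [Scheme.ofArrows_mem_precoverage_iff]
        exact ⟨fun x => ⟨x, ⟨x, hxU x⟩, rfl⟩, fun x => inferInstance⟩ }
  have hcompat : ∀ x y : X, pullback.fst (𝒰.f x) (𝒰.f y) ≫ f x = pullback.snd (𝒰.f x) (𝒰.f y) ≫ f y := by
    intro x y
    refine SchTorsor.hom_ext_generic (pullback.fst (𝒰.f x) (𝒰.f y) ≫ 𝒰.f x) g ?_ ?_ fun z hz => ?_
    · rw [Category.assoc, hf]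
    · rw [Category.assoc, hf, pullback.condition]
    · rw [← Category.assoc, ← Category.assoc, hft x _ (by rw [Category.assoc]; exact hz),
        hft y _ (by rw [Category.assoc]; exact (congrArg (z ≫ ·) pullback.condition).symm.trans hz)]
  refine ⟨𝒰.glueMorphisms f hcompat, ?_, ?_⟩
  · refine 𝒰.hom_ext _ _ fun x => ?_
    rw [Scheme.Cover.ι_glueMorphisms_assoc, Category.comp_id]
    exact hf x
  · let η := genericPoint X
    have h1 : (U η).ι ≫ 𝒰.glueMorphisms f hcompat = f η := Scheme.Cover.ι_glueMorphisms 𝒰 f hcompat η
    rw [← Scheme.Opens.fromSpecStalkOfMem_ι (U η) η (hxU η), Category.assoc, h1]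
    exact hft η _ (Scheme.Opens.fromSpecStalkOfMem_ι _ _ _)

end Groth.Agent.CechTorsorX.PrueferSection
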