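import Groth.Agent.CAlgOdd.HartogsTwo
import Groth.Agent.S10834
import Mathlib

/-! Morphisms from flat schemes into affine schemes extend across regular points of codimension two. -/

set_option autoImplicit false
set_option backward.isDefEq.respectTransparency false
set_option backward.isDefEq.respectTransparency.types false
universe u

open AlgebraicGeometry CategoryTheory CategoryTheory.Limits RingTheory.Sequence

namespace Groth.Agent.CechTorsorX.RegExtend

/-- A regular local ring of dimension at least two has a weakly regular pair in its maximal ideal. -/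
theorem exists_pair (R : Type u) [CommRing R] [IsRegularLocalRing R] (h : (2 : WithBot ℕ∞) ≤ ringKrullDim R) :
    ∃ a b : R, a ∈ IsLocalRing.maximalIdeal R ∧ b ∈ IsLocalRing.maximalIdeal R ∧ IsWeaklyRegular R [a, b] := by
  rw [← S10834.depth_of_regular R] at h
  have h2 : (2 : ℕ∞) ≤ LocCoh.depth R R := WithBot.coe_le_coe.1 h
  have hne : ¬ IsLocalRing.maximalIdeal R • (⊤ : Submodule R R) = ⊤ := by
    rw [smul_eq_mul, Ideal.mul_top]
    exact (IsLocalRing.maximalIdeal.isMaximal R).ne_top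
  have h1 : (1 : ℕ∞) < LocCoh.depth R R := lt_of_lt_of_le (by norm_num) h2
  rw [LocCoh.depth, LocCoh.idealDepth, if_neg hne] at h1
  obtain ⟨rs, hrs⟩ := lt_iSup_iff.1 h1
  obtain ⟨⟨hreg, hmem⟩, hlen⟩ := lt_iSup_iff.1 hrs
  match rs, hreg, hmem, hlen with
  | [], _, _, hlen => simp at hlen
  | [_], _, _, hlen => simp at hlen
  | a :: b :: rest, hreg, hmem, _ =>
    refine ⟨a, b, hmem a (by simp), hmem b (by simp), ?_⟩
    exact ((isWeaklyRegular_append_iff R [a, b] rest).1 hreg).1

/-- The pair hypothesis holds on schemes flat over a regular point of codimension two. -/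
theorem reg2_preimage {X Y : Scheme.{u}} (f : Y ⟶ X) [Flat f] (U : X.Opens)
    (hZ : ∀ z : X, z ∉ U → IsRegularLocalRing (X.presheaf.stalk z) ∧ (2 : WithBot ℕ∞) ≤ ringKrullDim (X.presheaf.stalk z))
    (y : Y) (hy : y ∉ f ⁻¹ᵁ U) : CAlgOdd.HartogsTwo.Reg2 (Y.presheaf.stalk y) := by
  haveI := (hZ (f y) hy).1
  obtain ⟨a, b, ha, hb, hab⟩ := exists_pair _ (hZ (f y) hy).2
  letI : Algebra (X.presheaf.stalk (f y)) (Y.presheaf.stalk y) := (f.stalkMap y).hom.toAlgebra
  haveI : Module.Flat (X.presheaf.stalk (f y)) (Y.presheaf.stalk y) := Flat.stalkMap f y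
  haveI : IsLocalHom (algebraMap (X.presheaf.stalk (f y)) (Y.presheaf.stalk y)) := f.toLRSHom.prop y
  have h := IsWeaklyRegular.of_flat (S := Y.presheaf.stalk y) hab
  simp only [List.map_cons, List.map_nil] at h
  exact CAlgOdd.HartogsTwo.reg2_of_isWeaklyRegular (map_nonunit (algebraMap _ _) a ha)
    (map_nonunit (algebraMap _ _) b hb) h

/-- Morphisms from a flat scheme into an affine scheme over the base extend uniquely across such points. -/
theorem existsUnique_hom {X P Q : Scheme.{u}} (f : P ⟶ X) [Flat f] (g : Q ⟶ X) [IsAffineHom g] (U : X.Opens)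
    [QuasiCompact U.ι]
    (hZ : ∀ z : X, z ∉ U → IsRegularLocalRing (X.presheaf.stalk z) ∧ (2 : WithBot ℕ∞) ≤ ringKrullDim (X.presheaf.stalk z))
    (t : ((f ⁻¹ᵁ U : P.Opens) : Scheme.{u}) ⟶ Q) (ht : t ≫ g = (f ⁻¹ᵁ U).ι ≫ f) :
    ∃! φ : P ⟶ Q, φ ≫ g = f ∧ (f ⁻¹ᵁ U).ι ≫ φ = t := by
  haveI : QuasiCompact (f ⁻¹ᵁ U).ι := MorphismProperty.of_isPullback (isPullback_morphismRestrict f U) inferInstance
  haveI : IsAffineHom (pullback.fst f g) := MorphismProperty.pullback_fst f g inferInstance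
  obtain ⟨s, ⟨hs1, hs2⟩, hs3⟩ := CAlgOdd.HartogsTwo.existsUnique_section (f ⁻¹ᵁ U) (reg2_preimage f U hZ)
    (pullback.fst f g) (pullback.lift (f ⁻¹ᵁ U).ι t ht.symm) (pullback.lift_fst _ _ _)
  refine ⟨s ≫ pullback.snd f g, ⟨?_, ?_⟩, fun φ ⟨hφ1, hφ2⟩ => ?_⟩
  · rw [Category.assoc, ← pullback.condition, ← Category.assoc, hs1, Category.id_comp]
  · rw [← Category.assoc, hs2, pullback.lift_snd]
  · have hl : pullback.lift (𝟙 P) φ ((Category.id_comp _).trans hφ1.symm) = s := hs3 _ ⟨pullback.lift_fst _ _ _, by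
      refine pullback.hom_ext ?_ ?_ <;> simp [hφ2]⟩
    rw [← hl, pullback.lift_snd]

end Groth.Agent.CechTorsorX.RegExtend
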