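import Groth.Agent.SchTorsor.Basic
import Mathlib.CategoryTheory.Monoidal.Cartesian.Over

/-! Exact sequences of group schemes and change of structure group. -/

set_option autoImplicit false
universe u

open CategoryTheory CategoryTheory.Limits MonoidalCategory CartesianMonoidalCategory MonObj GrpObj AlgebraicGeometry
open Groth.Agent.GrpSchLib.TopDescent Groth.Agent.SchTorsor

set_option linter.style.haveILetI false

namespace Groth.Agent.CechTorsorX.SchBoundary

variable {S : Scheme.{u}} {G G' G'' : Over S} [GrpObj G] [GrpObj G'] [GrpObj G'']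
  {u : G' ⟶ G} {v : G ⟶ G''}

theorem lift_mul {T : Over S} (x : T ⟶ G) (g : T ⟶ G') :
    lift x g ≫ (G ◁ u) ≫ μ[G] = x * (g ≫ u) := by
  rw [Hom.mul_def, ← Category.assoc, lift_whiskerLeft]

section

variable (hex : NonAbH1.IsExactSeq Scheme.fpqcPrecoverage u v)
include hex

theorem u_inj {T : Over S} {g h : T ⟶ G'} (e : g ≫ u = h ≫ u) : g = h := by
  obtain ⟨hu, hv, huv, hpb, -⟩ := hex
  have : lift (1 : T ⟶ G) g = lift (1 : T ⟶ G) h := hpb.hom_ext (by simp) (by rw [lift_mul, lift_mul, e])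
  simpa using congrArg (· ≫ snd G G') this

theorem u_v {T : Over S} (g : T ⟶ G') : (g ≫ u) ≫ v = 1 := by
  rw [Category.assoc, hex.2.2.1, MonObj.comp_one]

theorem exists_diff {T : Over S} (x y : T ⟶ G) (e : x ≫ v = y ≫ v) : ∃ g : T ⟶ G', x * (g ≫ u) = y := by
  obtain ⟨hu, hv, huv, hpb, -⟩ := hex
  refine ⟨hpb.lift x y e ≫ snd G G', ?_⟩
  conv_rhs => rw [← hpb.lift_snd x y e]
  rw [← lift_mul]
  congr 1
  refine CartesianMonoidalCategory.hom_ext _ _ ?_ ?_
  · rw [lift_fst]; exact (hpb.lift_fst x y e).symm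
  · rw [lift_snd]

end

variable [IsCommMonObj G]

theorem act_trivial {T : Over S} (g x : T ⟶ G) :
    lift g x ≫ (NonAbH1.trivialAction G).act = g * x := (Hom.mul_def g x).symm

/-- An equivariant map to the trivial torsor is a pullback torsor and conversely. -/
theorem pushforward_trivial_iff (hex : NonAbH1.IsExactSeq Scheme.fpqcPrecoverage u v)
    (Q : NonAbH1.TorsorSch G' Scheme.fpqcPrecoverage) :
    NonAbH1.IsPushforwardAlongSch u Q.act (NonAbH1.trivialAction G) ↔
      ∃ (f : 𝟙_ (Over S) ⟶ G'') (i : Q.X ⟶ G), NonAbH1.IsPullbackTorsor u v f i Q.act := by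
  haveI : IsMonHom u := hex.1
  haveI : IsMonHom v := hex.2.1
  constructor
  · rintro ⟨φ, hφ⟩
    have hpt : ∀ (T : Over S) (g : T ⟶ G') (q : T ⟶ Q.X),
        lift g q ≫ Q.act.act ≫ φ⁻¹ = (q ≫ φ⁻¹) * (g ≫ u)⁻¹ := by
      intro T g q
      have h := congrArg (lift g q ≫ ·) hφ
      simp only [comp_lift_assoc, lift_fst_assoc, lift_snd_assoc] at h
      rw [act_trivial] at h
      rw [GrpObj.comp_inv, GrpObj.comp_inv, GrpObj.comp_inv, h, _root_.mul_inv_rev]
    have hinv : Q.act.act ≫ φ⁻¹ ≫ v = snd G' Q.X ≫ φ⁻¹ ≫ v := by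
      have := congrArg (· ≫ v) (hpt (G' ⊗ Q.X) (fst _ _) (snd _ _))
      simp only [lift_fst_snd, Category.id_comp, MonObj.mul_comp, Category.assoc] at this
      have h2 : (fst G' Q.X ≫ u)⁻¹ ≫ v = 1 := by rw [GrpObj.inv_comp, u_v hex, inv_one]
      rw [this, h2, _root_.mul_one]
    obtain ⟨f, hf, -⟩ := existsUnique_desc Q.isTorsor (φ⁻¹ ≫ v) hinv
    refine ⟨f, φ⁻¹, hex.1, hex.2.1, ?_, hpt⟩
    let j : Q.X ⟶ pullback v f := pullback.lift φ⁻¹ (toUnit Q.X) hf.symm
    have hj1 : j ≫ pullback.fst v f = φ⁻¹ := pullback.lift_fst _ _ _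
    have hloc : HasLocSec Scheme.fpqcTopology j := by
      refine hasLocSec_of_points j Q.isTorsor.2 fun T y s => ?_
      have h1 : (s ≫ φ⁻¹) ≫ v = (y ≫ pullback.fst v f) ≫ v := by
        rw [Category.assoc, Category.assoc, pullback.condition, ← hf, ← Category.assoc, ← Category.assoc]
        congr 1
        exact toUnit_unique _ _
      obtain ⟨g, hg⟩ := exists_diff hex _ _ h1
      refine ⟨lift g⁻¹ s ≫ Q.act.act, pullback.hom_ext ?_ (toUnit_unique _ _)⟩
      rw [Category.assoc, hj1, Category.assoc, hpt, GrpObj.inv_comp, _root_.inv_inv, hg]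
    haveI : IsIso j := by
      refine isIso_of_mono_of_hasLocSec j (fun T x y h => ?_) hloc
      obtain ⟨g, rfl⟩ := exists_div Q.isTorsor.1 x y
      have h' := congrArg (· ≫ pullback.fst v f) h
      simp only [Category.assoc, hj1] at h'
      rw [hpt] at h'
      have : g = 1 := u_inj hex (by rw [MonObj.one_comp]; exact inv_eq_one.1 (mul_left_cancel (h'.trans (_root_.mul_one _).symm)))
      rw [this, one_act_pt]
    exact IsPullback.of_iso_pullback ⟨hf.symm⟩ (asIso j) hj1 (toUnit_unique _ _)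
  · rintro ⟨f, i, -, -, -, hi⟩
    refine ⟨i⁻¹, ?_⟩
    show Q.act.act ≫ i⁻¹ = _
    rw [act_trivial, GrpObj.comp_inv, GrpObj.comp_inv]
    have := hi _ (fst G' Q.X) (snd G' Q.X)
    rw [lift_fst_snd, Category.id_comp] at this
    rw [this, _root_.mul_inv_rev, _root_.inv_inv]

theorem isLocallyTrivial_lift {P X : Over S}
    (hP : NonAbH1.IsLocallyTrivialFor Scheme.fpqcPrecoverage P) {Y₁ Z : Over S} (j : Y₁ ⟶ Z)
    (hj : NonAbH1.IsLocallyTrivialFor Scheme.fpqcPrecoverage (Over.mk j.left : Over Z.left))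
    (z : P ⟶ Z) (hX : ∀ (T : Over S) (p : T ⟶ P) (y : T ⟶ Y₁), y ≫ j = p ≫ z → Nonempty (T ⟶ X)) :
    NonAbH1.IsLocallyTrivialFor Scheme.fpqcPrecoverage X := by
  obtain ⟨R, hR, hsec⟩ := hP
  obtain ⟨J, U, r, rfl⟩ := R.exists_eq_ofArrows
  obtain ⟨R2, hR2, hsec2⟩ := hj
  obtain ⟨κ, V, r2, rfl⟩ := R2.exists_eq_ofArrows
  choose p hp using fun i => hsec (r i) (.mk i)
  let z' : ∀ i, U i ⟶ Z.left := fun i => p i ≫ z.left
  refine ⟨Presieve.ofArrows (fun x : Σ _ : J, κ => pullback (z' x.1) (r2 x.2))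
      (fun x => pullback.fst (z' x.1) (r2 x.2) ≫ r x.1),
    Precoverage.comp_mem_coverings r hR (fun i k => pullback.fst (z' i) (r2 k)) fun i =>
      Precoverage.mem_coverings_of_isPullback r2 hR2 (z' i) _ _ fun k => IsPullback.of_hasPullback _ _, ?_⟩
  rintro _ _ ⟨⟨i, k⟩⟩
  obtain ⟨s, hs⟩ := hsec2 (r2 k) (.mk k)
  have hs : s ≫ j.left = r2 k := hs
  let T : Over S := Over.mk (pullback.fst (z' i) (r2 k) ≫ r i)
  let pp : T ⟶ P := Over.homMk (pullback.fst _ _ ≫ p i) (by
    show (pullback.fst (z' i) (r2 k) ≫ p i) ≫ P.hom = pullback.fst (z' i) (r2 k) ≫ r i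
    rw [Category.assoc, hp])
  let yy : T ⟶ Y₁ := Over.homMk (pullback.snd (z' i) (r2 k) ≫ s) (by
    show (pullback.snd (z' i) (r2 k) ≫ s) ≫ Y₁.hom = pullback.fst (z' i) (r2 k) ≫ r i
    rw [← Over.w j, Category.assoc, ← Category.assoc s, hs, ← Category.assoc, ← pullback.condition]
    simp only [z', Category.assoc, Over.w, hp])
  obtain ⟨x⟩ := hX T pp yy (Over.OverMorphism.ext (by
    show (pullback.snd (z' i) (r2 k) ≫ s) ≫ j.left = (pullback.fst (z' i) (r2 k) ≫ p i) ≫ z.left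
    rw [Category.assoc, hs, ← pullback.condition, Category.assoc]))
  exact ⟨x.left, Over.w x⟩

variable [IsCommMonObj G'']

/-- The class of a torsor dies along `v` exactly when it comes from the kernel. -/
theorem exists_kernel_torsor_iff (hex : NonAbH1.IsExactSeq Scheme.fpqcPrecoverage u v)
    (P : NonAbH1.TorsorSch G Scheme.fpqcPrecoverage) :
    NonAbH1.IsPushforwardAlongSch v P.act (NonAbH1.trivialAction G'') ↔
      ∃ Q : NonAbH1.TorsorSch G' Scheme.fpqcPrecoverage, NonAbH1.IsPushforwardAlongSch u Q.act P.act := by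
  haveI : IsMonHom u := hex.1
  haveI : IsMonHom v := hex.2.1
  constructor
  · rintro ⟨ψ, hψ⟩
    have hpt : ∀ {T : Over S} (g : T ⟶ G) (p : T ⟶ P.X),
        (lift g p ≫ P.act.act) ≫ ψ = (g ≫ v) * (p ≫ ψ) := by
      intro T g p
      have h := congrArg (lift g p ≫ ·) hψ
      simp only [comp_lift_assoc, lift_fst_assoc, lift_snd_assoc] at h
      rw [act_trivial] at h
      rw [Category.assoc]; exact h
    let X := pullback ψ η[G'']
    let inc : X ⟶ P.X := pullback.fst ψ η[G'']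
    have hinc : ∀ {T : Over S} (x : T ⟶ X), (x ≫ inc) ≫ ψ = 1 := fun x => by
      rw [Category.assoc, pullback.condition, Hom.one_def, ← Category.assoc]
      congr 1
      exact toUnit_unique _ _
    have mono : ∀ {T : Over S} (x y : T ⟶ X), x ≫ inc = y ≫ inc → x = y := fun x y h =>
      pullback.hom_ext h (toUnit_unique _ _)
    let act : G' ⊗ X ⟶ X := pullback.lift (lift (fst G' X ≫ u) (snd G' X ≫ inc) ≫ P.act.act) (toUnit _) (by
      rw [hpt, u_v hex, hinc, _root_.mul_one, Hom.one_def])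
    have hact : ∀ {T : Over S} (g : T ⟶ G') (x : T ⟶ X),
        (lift g x ≫ act) ≫ inc = lift (g ≫ u) (x ≫ inc) ≫ P.act.act := fun g x => by
      rw [Category.assoc, pullback.lift_fst, comp_lift_assoc, lift_fst_assoc, lift_snd_assoc]
    let a : AlgGrp.Action G' X :=
      { act := act
        one_act := mono _ _ (by
          have e : η[G'] ▷ X = lift (1 : 𝟙_ (Over S) ⊗ X ⟶ G') (snd _ _) := by
            refine CartesianMonoidalCategory.hom_ext _ _ ?_ ?_
            · rw [whiskerRight_fst, lift_fst, Hom.one_def]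
              congr 1
            · simp
          rw [e, hact, MonObj.one_comp, one_act_pt, leftUnitor_hom])
        mul_act := mono _ _ (by
          let g₁ : (G' ⊗ G') ⊗ X ⟶ G' := fst _ _ ≫ fst G' G'
          let g₂ : (G' ⊗ G') ⊗ X ⟶ G' := fst _ _ ≫ snd G' G'
          let x : (G' ⊗ G') ⊗ X ⟶ X := snd _ _
          have e1 : μ[G'] ▷ X = lift (g₁ * g₂) x := by
            refine CartesianMonoidalCategory.hom_ext _ _ ?_ ?_
            · rw [whiskerRight_fst, lift_fst, Hom.mul_def, ← comp_lift, lift_fst_snd, Category.comp_id]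
            · simp [x]
          have e2 : (α_ G' G' X).hom ≫ (G' ◁ act) = lift g₁ (lift g₂ x ≫ act) := by
            refine CartesianMonoidalCategory.hom_ext _ _ ?_ ?_
            · simp [g₁]
            · rw [Category.assoc, whiskerLeft_snd, lift_snd, ← Category.assoc]
              congr 1
              refine CartesianMonoidalCategory.hom_ext _ _ ?_ ?_ <;> simp [g₂, x]
          rw [e1, ← Category.assoc (α_ G' G' X).hom, e2, hact, hact, hact, MonObj.mul_comp, act_assoc]) }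
    have hdiv : ∀ {T : Over S} (x y : T ⟶ X), ∃ g : T ⟶ G', lift g y ≫ act = x := fun x y => by
      obtain ⟨h, hh⟩ := exists_div P.isTorsor.1 (x ≫ inc) (y ≫ inc)
      have hv1 : h ≫ v = 1 := by
        have := congrArg (· ≫ ψ) hh
        simp only [hpt, hinc, _root_.mul_one] at this
        exact this
      obtain ⟨g, hg⟩ := exists_diff hex 1 h (by rw [MonObj.one_comp, hv1])
      rw [_root_.one_mul] at hg
      exact ⟨g, mono _ _ (by rw [hact, hg, hh])⟩
    have hfree : ∀ {T : Over S} (g h : T ⟶ G') (y : T ⟶ X), lift g y ≫ act = lift h y ≫ act → g = h :=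
      fun g h y e => u_inj hex (act_free P.isTorsor.1 (by rw [← hact, ← hact, e]))
    have hps : NonAbH1.IsPseudoTorsorSch a := by
      obtain ⟨g, hg⟩ := hdiv (fst X X) (snd X X)
      refine ⟨lift g (snd X X), ?_, ?_⟩
      · refine CartesianMonoidalCategory.hom_ext _ _ ?_ ?_
        · rw [Category.assoc, lift_fst, Category.id_comp]
          refine hfree _ _ (snd G' X) ?_
          have := congrArg (lift a.act (snd G' X) ≫ ·) hg
          simp only [comp_lift_assoc, lift_fst, lift_snd, lift_fst_snd] at this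
          rw [this, lift_fst_snd, Category.id_comp]
        · simp
      · refine CartesianMonoidalCategory.hom_ext _ _ ?_ ?_
        · rw [Category.assoc, lift_fst, hg, Category.id_comp]
        · simp
    have hlt : NonAbH1.IsLocallyTrivialFor Scheme.fpqcPrecoverage X := by
      refine isLocallyTrivial_lift P.isTorsor.2 v hex.2.2.2.2 ψ fun T p y hy => ?_
      refine ⟨pullback.lift (lift y⁻¹ p ≫ P.act.act) (toUnit T) ?_⟩
      rw [hpt, GrpObj.inv_comp, hy, inv_mul_cancel, Hom.one_def]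
    refine ⟨⟨X, a, hps, hlt⟩, inc, ?_⟩
    show act ≫ inc = _
    exact pullback.lift_fst _ _ _
  · rintro ⟨Q, φ, hφ⟩
    have hpt : ∀ {T : Over S} (g : T ⟶ G') (q : T ⟶ Q.X),
        (lift g q ≫ Q.act.act) ≫ φ = lift (g ≫ u) (q ≫ φ) ≫ P.act.act := by
      intro T g q
      have h := congrArg (lift g q ≫ ·) hφ
      simp only [comp_lift_assoc, lift_fst_assoc, lift_snd_assoc] at h
      rw [Category.assoc]; exact h
    obtain ⟨g, hg⟩ := exists_div P.isTorsor.1 (fst P.X Q.X) (snd P.X Q.X ≫ φ)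
    have key : ∀ {T : Over S} (p : T ⟶ P.X) (q : T ⟶ Q.X) (h : T ⟶ G),
        lift h (q ≫ φ) ≫ P.act.act = p → lift p q ≫ g ≫ v = h ≫ v := by
      intro T p q h hh
      have := congrArg (lift p q ≫ ·) hg
      simp only [comp_lift_assoc, lift_fst, lift_snd_assoc] at this
      have e : lift p q ≫ g = h := act_free P.isTorsor.1 (this.trans hh.symm)
      rw [← Category.assoc, e]
    have hls : ∀ (Y : Over S), HasLocSec Scheme.fpqcTopology (fst Y Q.X) := fun Y =>
      hasLocSec_of_points _ Q.isTorsor.2 fun T y s => ⟨lift y s, lift_fst _ _⟩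
    obtain ⟨ψ, hψ, -⟩ := (hls P.X).existsUnique_desc (g ≫ v) (fun T x y hxy => by
      have hex' : ∀ z : T ⟶ P.X ⊗ Q.X, z = lift (z ≫ fst _ _) (z ≫ snd _ _) := fun z => by
        rw [← comp_lift, lift_fst_snd, Category.comp_id]
      obtain ⟨g', hg'⟩ := exists_div Q.isTorsor.1 (x ≫ snd _ _) (y ≫ snd _ _)
      obtain ⟨h, hh⟩ := exists_div P.isTorsor.1 (x ≫ fst _ _) ((x ≫ snd _ _) ≫ φ)
      rw [hex' x, hex' y, ← hxy, key _ _ h hh, key (x ≫ fst _ _) (y ≫ snd _ _) (h * (g' ≫ u))]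
      · rw [MonObj.mul_comp, u_v hex, _root_.mul_one]
      · rw [act_assoc, ← hpt, hg', hh])
    refine ⟨ψ, (hls (G ⊗ P.X)).hom_ext ?_⟩
    rw [act_trivial, MonObj.comp_mul]
    let w := lift (fst (G ⊗ P.X) Q.X ≫ snd G P.X) (snd (G ⊗ P.X) Q.X)
    have hr : fst (G ⊗ P.X) Q.X ≫ snd G P.X ≫ ψ = w ≫ g ≫ v := by
      rw [← hψ, lift_fst_assoc, Category.assoc]
    have hl : fst (G ⊗ P.X) Q.X ≫ P.act.act ≫ ψ =
        lift (fst (G ⊗ P.X) Q.X ≫ P.act.act) (snd (G ⊗ P.X) Q.X) ≫ g ≫ v := by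
      rw [← hψ, lift_fst_assoc, Category.assoc]
    obtain ⟨h, hh⟩ := exists_div P.isTorsor.1 (fst (G ⊗ P.X) Q.X ≫ snd G P.X) (snd (G ⊗ P.X) Q.X ≫ φ)
    rw [hr, hl, key _ _ ((fst (G ⊗ P.X) Q.X ≫ fst G P.X) * h), key _ _ h hh, MonObj.mul_comp, Category.assoc]
    rw [act_assoc, hh, ← comp_lift, lift_fst_snd, Category.comp_id]

end Groth.Agent.CechTorsorX.SchBoundary
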