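import Groth.Agent.SchTorsor.Props
import Groth.Agent.GmH1Lib.Hilbert90
import Mathlib.AlgebraicGeometry.Sites.Fpqc
import Mathlib.RingTheory.Flat.FaithfullyFlat.Algebra

/-! Zariski local triviality of torsors whose group satisfies Hilbert 90 on affines. -/

set_option autoImplicit false
set_option backward.isDefEq.respectTransparency false
set_option backward.isDefEq.respectTransparency.types false
set_option linter.style.haveILetI false
universe u

open CategoryTheory CategoryTheory.Limits MonoidalCategory CartesianMonoidalCategory MonObj GrpObj AlgebraicGeometry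
open TensorProduct

noncomputable section

namespace Groth.Agent.CechTorsorX.ZariskiTriv

open Groth.Agent.GmH1Lib.Hilbert90 Groth.Agent.SchTorsor

variable {S : Scheme.{u}}

/-- The spectrum of an algebra over an affine scheme mapping to `S`. -/
abbrev sp {R : Type u} [CommRing R] (j : Spec (CommRingCat.of R) ⟶ S) (B : Type u) [CommRing B] [Algebra R B] :
    Over S :=
  Over.mk (Spec.map (CommRingCat.ofHom (algebraMap R B)) ≫ j)

/-- The map of spectra of a map of algebras. -/
def sh {R : Type u} [CommRing R] {j : Spec (CommRingCat.of R) ⟶ S} {B C : Type u} [CommRing B] [CommRing C]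
    [Algebra R B] [Algebra R C] (h : B →ₐ[R] C) : sp j C ⟶ sp j B :=
  Over.homMk (Spec.map (CommRingCat.ofHom h.toRingHom)) (by
    show Spec.map _ ≫ Spec.map _ ≫ j = _
    rw [← Category.assoc, ← Spec.map_comp, ← CommRingCat.ofHom_comp]
    rw [show h.toRingHom.comp (algebraMap R B) = algebraMap R C from h.comp_algebraMap]
    rfl)

theorem sh_comp {R : Type u} [CommRing R] {j : Spec (CommRingCat.of R) ⟶ S} {B C D : Type u} [CommRing B]
    [CommRing C] [CommRing D] [Algebra R B] [Algebra R C] [Algebra R D] (h : B →ₐ[R] C) (g : C →ₐ[R] D) :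
    sh (j := j) g ≫ sh h = sh (g.comp h) := by
  ext1
  exact (Spec.map_comp _ _).symm

/-- The localised cover. -/
abbrev CC (R A : Type u) [CommRing R] [CommRing A] [Algebra R A] (f : R) : Type u := Localization.Away f ⊗[R] A

/-- The left inclusion into the double localised cover. -/
abbrev cL (R A : Type u) [CommRing R] [CommRing A] [Algebra R A] (f : R) :
    CC R A f →ₐ[R] CC R A f ⊗[R] CC R A f := Algebra.TensorProduct.includeLeft

/-- The right inclusion into the double localised cover. -/
abbrev cR (R A : Type u) [CommRing R] [CommRing A] [Algebra R A] (f : R) :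
    CC R A f →ₐ[R] CC R A f ⊗[R] CC R A f := Algebra.TensorProduct.includeRight

/-- The map to the localised cover. -/
abbrev cι (R A : Type u) [CommRing R] [CommRing A] [Algebra R A] (f : R) :
    A →ₐ[R] CC R A f := Algebra.TensorProduct.includeRight

/-- Hilbert 90 for a group scheme over affine schemes, Zariski locally on the base. -/
def LocalH90 (G : Over S) [GrpObj G] : Prop :=
  ∀ (R A : Type u) [CommRing R] [CommRing A] [Algebra R A] [Module.FaithfullyFlat R A]
    (j : Spec (CommRingCat.of R) ⟶ S) (g : sp j (A ⊗[R] A) ⟶ G),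
    sh (p02 R A) ≫ g = (sh (p01 R A) ≫ g) * (sh (p12 R A) ≫ g) →
    ∀ p : PrimeSpectrum R, ∃ f : R, f ∉ p.asIdeal ∧ ∃ b : sp j (CC R A f) ⟶ G,
      sh (B := CC R A f) (C := CC R A f ⊗[R] CC R A f) (cL R A f) ≫ b =
        (sh (B := A ⊗[R] A) (C := CC R A f ⊗[R] CC R A f)
            (Algebra.TensorProduct.map (cι R A f) (cι R A f)) ≫ g) *
          (sh (B := CC R A f) (C := CC R A f ⊗[R] CC R A f) (cR R A f) ≫ b)

/-- A quasi-compact flat surjection onto an affine scheme is refined by a faithfully flat algebra. -/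
theorem exists_ff_algebra {R : CommRingCat.{u}} {Z : Scheme.{u}} (p : Z ⟶ Spec R) [Flat p] [Surjective p]
    [QuasiCompact p] :
    ∃ (A : Type u) (_ : CommRing A) (_ : Algebra R A) (q : Spec (CommRingCat.of A) ⟶ Z),
      Module.FaithfullyFlat R A ∧ q ≫ p = Spec.map (CommRingCat.ofHom (algebraMap R A)) := by
  haveI : CompactSpace Z := QuasiCompact.compactSpace_of_compactSpace p
  let 𝒰 := Z.affineCover.finiteSubcover
  haveI : ∀ i, IsAffine (𝒰.X i) := fun i => by dsimp [𝒰, Scheme.OpenCover.finiteSubcover]; infer_instance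
  let σ : (∐ 𝒰.X) ⟶ Z := Sigma.desc 𝒰.f
  haveI : Surjective σ := ⟨fun z => by
    obtain ⟨i, y, hy⟩ := 𝒰.exists_eq z
    exact ⟨(Sigma.ι 𝒰.X i).base y, by rw [← Scheme.Hom.comp_apply, Sigma.ι_desc]; exact hy⟩⟩
  haveI : Flat σ := IsZariskiLocalAtSource.sigmaDesc fun i => inferInstance
  let A := Γ(∐ 𝒰.X, ⊤)
  let q : Spec A ⟶ Z := (∐ 𝒰.X).isoSpec.inv ≫ σ
  let h : R ⟶ A := Spec.preimage (q ≫ p)
  letI : Algebra R A := h.hom.toAlgebra
  have hq : q ≫ p = Spec.map (CommRingCat.ofHom (algebraMap R A)) := by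
    rw [RingHom.algebraMap_toAlgebra, CommRingCat.ofHom_hom, Spec.map_preimage]
  have hfl : Flat (q ≫ p) := inferInstance
  have hsu : Surjective (q ≫ p) := inferInstance
  refine ⟨A, inferInstance, inferInstance, q, ?_, hq⟩
  rw [hq] at hfl hsu
  haveI : Module.Flat R A := RingHom.flat_algebraMap_iff.1 ((HasRingHomProperty.Spec_iff (P := @Flat)).1 hfl)
  exact Module.FaithfullyFlat.of_comap_surjective hsu.surj

/-- Descent of a morphism along the localised cover. -/
theorem exists_desc {R A : Type u} [CommRing R] [CommRing A] [Algebra R A] [Module.FaithfullyFlat R A] (f : R)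
    {W : Scheme.{u}} (t : Spec (CommRingCat.of (CC R A f)) ⟶ W)
    (ht : Spec.map (CommRingCat.ofHom (R := CC R A f) (S := CC R A f ⊗[R] CC R A f) (cL R A f).toRingHom) ≫ t =
      Spec.map (CommRingCat.ofHom (R := CC R A f) (S := CC R A f ⊗[R] CC R A f) (cR R A f).toRingHom) ≫ t) :
    ∃ σ : Spec (CommRingCat.of (Localization.Away f)) ⟶ W,
      Spec.map (CommRingCat.ofHom (algebraMap (Localization.Away f) (Localization.Away f ⊗[R] A))) ≫ σ = t := by
  let Rf := Localization.Away f
  let C := Rf ⊗[R] A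
  let π := Spec.map (CommRingCat.ofHom (algebraMap Rf C))
  haveI : Module.FaithfullyFlat Rf C := inferInstance
  haveI : Flat π := (HasRingHomProperty.Spec_iff (P := @Flat)).2 (RingHom.flat_algebraMap_iff.2 inferInstance)
  haveI : Surjective π := ⟨PrimeSpectrum.comap_surjective_of_faithfullyFlat⟩
  refine ⟨EffectiveEpi.desc π t (fun {Z} a b hab => ?_), EffectiveEpi.fac π t _⟩
  let c := Spec.map (CommRingCat.ofHom (algebraMap R Rf))
  have hπ : π ≫ c = Spec.map (CommRingCat.ofHom (algebraMap R C)) := by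
    rw [← Spec.map_comp, ← CommRingCat.ofHom_comp, ← IsScalarTower.algebraMap_eq]
  have hab' : a ≫ Spec.map (CommRingCat.ofHom (algebraMap R C)) = b ≫ Spec.map (CommRingCat.ofHom (algebraMap R C)) := by
    rw [← hπ, ← Category.assoc, hab, Category.assoc]
  let z := pullback.lift a b hab' ≫ (pullbackSpecIso R C C).hom
  have h1 : z ≫ Spec.map (CommRingCat.ofHom (R := C) (S := C ⊗[R] C) (cL R A f).toRingHom) = a := by
    refine (congrArg (z ≫ ·) (pullbackSpecIso_inv_fst R C C).symm).trans ?_
    simp [z, Rf, C]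
  have h2 : z ≫ Spec.map (CommRingCat.ofHom (R := C) (S := C ⊗[R] C) (cR R A f).toRingHom) = b := by
    refine (congrArg (z ≫ ·) (pullbackSpecIso_inv_snd R C C).symm).trans ?_
    simp [z, Rf, C]
  rw [← h1, ← h2]
  exact (Category.assoc _ _ _).trans ((congrArg (z ≫ ·) ht).trans (Category.assoc _ _ _).symm)

variable {G X Y : Over S} [GrpObj G]

/-- Torsors under a group with Hilbert 90 are Zariski locally trivial. -/
theorem isLocallyTrivial (hG : LocalH90 G) (a : AlgGrp.Action G X) (φ : X ⟶ Y)
    (hinv : a.act ≫ φ = snd G X ≫ φ)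
    (hdiv : ∀ (T : Over S) (x y : T ⟶ X), x ≫ φ = y ≫ φ → ∃ g : T ⟶ G, lift g y ≫ a.act = x)
    (hfree : ∀ (T : Over S) (g h : T ⟶ G) (y : T ⟶ X), lift g y ≫ a.act = lift h y ≫ a.act → g = h)
    (hloc : NonAbH1.IsLocallyTrivialFor Scheme.fpqcPrecoverage (Over.mk φ.left : Over Y.left)) :
    NonAbH1.IsLocallyTrivialFor Scheme.zariskiPrecoverage (Over.mk φ.left : Over Y.left) := by
  have key : ∀ y : Y.left, ∃ (V : Scheme.{u}) (v : V ⟶ Y.left), IsOpenImmersion v ∧ y ∈ Set.range v.base ∧
      NonAbH1.HasSectionOver (Over.mk φ.left : Over Y.left) v := by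
    intro y
    obtain ⟨i, y₀, hy₀⟩ := Y.left.affineCover.exists_eq y
    let V := Y.left.affineCover.X i
    let R := Γ(V, ⊤)
    let v : Spec R ⟶ Y.left := V.isoSpec.inv ≫ Y.left.affineCover.f i
    obtain ⟨p₀, hp₀⟩ : ∃ p₀, v.base p₀ = y := ⟨V.isoSpec.hom.base y₀, by
      rw [← Scheme.Hom.comp_apply, Iso.hom_inv_id_assoc]; exact hy₀⟩
    obtain ⟨Z, p, hp1, hp2, hp3, s₀, hs₀⟩ := exists_single hloc v
    haveI := hp1; haveI := hp2; haveI := hp3
    obtain ⟨A, _, _, q, hA, hq⟩ := exists_ff_algebra p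
    haveI := hA
    let j : Spec (CommRingCat.of R) ⟶ S := v ≫ Y.hom
    let hh : ∀ (B : Type u) [CommRing B] [Algebra R B], sp j B ⟶ Y := fun B _ _ =>
      Over.homMk (Spec.map (CommRingCat.ofHom (algebraMap R B)) ≫ v) (Category.assoc _ _ _)
    have hhh : ∀ {B C : Type u} [CommRing B] [CommRing C] [Algebra R B] [Algebra R C] (h : B →ₐ[R] C),
        sh (j := j) h ≫ hh B = hh C := fun {B C} _ _ _ _ h => by
      ext1
      show Spec.map _ ≫ Spec.map _ ≫ v = Spec.map _ ≫ v
      rw [← Category.assoc, ← Spec.map_comp, ← CommRingCat.ofHom_comp]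
      rw [show h.toRingHom.comp (algebraMap R B) = algebraMap R C from h.comp_algebraMap]
    have hs₁ : (q ≫ s₀) ≫ φ.left = Spec.map (CommRingCat.ofHom (algebraMap R A)) ≫ v := by
      rw [← hq, Category.assoc, Category.assoc]
      exact congrArg (q ≫ ·) hs₀
    let s : sp j A ⟶ X := Over.homMk (q ≫ s₀) (by
      show (q ≫ s₀) ≫ X.hom = Spec.map _ ≫ v ≫ Y.hom
      rw [← Over.w φ, ← Category.assoc _ φ.left, hs₁, Category.assoc])
    have hs : s ≫ φ = hh A := Over.OverMorphism.ext hs₁
    obtain ⟨g, hg⟩ := hdiv (sp j (A ⊗[R] A))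
      (sh (Algebra.TensorProduct.includeLeft : A →ₐ[R] A ⊗[R] A) ≫ s)
      (sh (Algebra.TensorProduct.includeRight : A →ₐ[R] A ⊗[R] A) ≫ s)
      (by rw [Category.assoc, Category.assoc, hs, hhh, hhh])
    -- pullback of the defining equation
    have hrel : ∀ {B : Type u} [CommRing B] [Algebra R B] (h : A ⊗[R] A →ₐ[R] B),
        lift (sh (j := j) h ≫ g) (sh (h.comp Algebra.TensorProduct.includeRight) ≫ s) ≫ a.act =
          sh (h.comp Algebra.TensorProduct.includeLeft) ≫ s := fun {B} _ _ h => by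
      have := congrArg (sh (j := j) h ≫ ·) hg
      simp only [comp_lift_assoc] at this
      rw [← Category.assoc (sh h), sh_comp, ← Category.assoc (sh h) (sh _) s, sh_comp] at this
      exact this
    have hc : sh (p02 R A) ≫ g = (sh (p01 R A) ≫ g) * (sh (p12 R A) ≫ g) := by
      refine hfree _ _ _ (sh ((p12 R A).comp Algebra.TensorProduct.includeRight) ≫ s) ?_
      rw [act_assoc, hrel (p12 R A)]
      have e1 : (p02 R A).comp Algebra.TensorProduct.includeRight =
          (p12 R A).comp Algebra.TensorProduct.includeRight := by ext x; simp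
      have e2 : (p01 R A).comp Algebra.TensorProduct.includeRight =
          (p12 R A).comp Algebra.TensorProduct.includeLeft := by ext x; simp
      have e3 : (p02 R A).comp Algebra.TensorProduct.includeLeft =
          (p01 R A).comp Algebra.TensorProduct.includeLeft := by ext x; simp
      rw [← e1, hrel (p02 R A), ← e2, hrel (p01 R A), e3]
    obtain ⟨f, hf, b, hb⟩ := hG R A j g hc p₀
    let C := CC R A f
    let ι₀ : A →ₐ[R] C := cι R A f
    let t : sp j C ⟶ X := lift b⁻¹ (sh ι₀ ≫ s) ≫ a.act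
    have htφ : t ≫ φ = hh C := by
      rw [Category.assoc, hinv, lift_snd_assoc, Category.assoc, hs, hhh]
    let iL : C →ₐ[R] C ⊗[R] C := cL R A f
    let iR : C →ₐ[R] C ⊗[R] C := cR R A f
    have ht : sh (j := j) (B := C) (C := C ⊗[R] C) iL ≫ t = sh (j := j) (B := C) (C := C ⊗[R] C) iR ≫ t := by
      have hm := hrel (B := C ⊗[R] C) (Algebra.TensorProduct.map ι₀ ι₀)
      rw [show (Algebra.TensorProduct.map ι₀ ι₀).comp Algebra.TensorProduct.includeRight = iR.comp ι₀ by
          ext x; rfl,
        show (Algebra.TensorProduct.map ι₀ ι₀).comp Algebra.TensorProduct.includeLeft = iL.comp ι₀ by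
          ext x; rfl] at hm
      simp only [t, comp_lift_assoc, GrpObj.comp_inv]
      rw [← Category.assoc (sh (B := C) (C := C ⊗[R] C) iL) (sh ι₀), ← Category.assoc (sh (B := C) (C := C ⊗[R] C) iR) (sh ι₀),
        sh_comp, sh_comp, hb,
        _root_.mul_inv_rev, act_assoc, ← hm]
      congr 2
      rw [← act_assoc, inv_mul_cancel, one_act_pt]
    obtain ⟨σ, hσ⟩ := exists_desc (R := R) (A := A) f t.left (congrArg CommaMorphism.left ht)
    let c := Spec.map (CommRingCat.ofHom (algebraMap R (Localization.Away f)))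
    refine ⟨_, c ≫ v, inferInstance, ?_, σ, ?_⟩
    · obtain ⟨q', hq'⟩ : p₀ ∈ Set.range (PrimeSpectrum.comap (algebraMap R (Localization.Away f))) := by
        rw [PrimeSpectrum.localization_away_comap_range (Localization.Away f) f]
        exact hf
      exact ⟨q', by rw [Scheme.Hom.comp_apply]; exact (congrArg v.base hq').trans hp₀⟩
    · let π := Spec.map (CommRingCat.ofHom (algebraMap (Localization.Away f) C))
      haveI : Surjective π := ⟨PrimeSpectrum.comap_surjective_of_faithfullyFlat⟩
      haveI : Flat π := (HasRingHomProperty.Spec_iff (P := @Flat)).2 (RingHom.flat_algebraMap_iff.2 inferInstance)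
      show σ ≫ φ.left = c ≫ v
      rw [← cancel_epi π, ← Category.assoc, hσ]
      refine (congrArg CommaMorphism.left htφ).trans ?_
      have hcπ : Spec.map (CommRingCat.ofHom (algebraMap R C)) = π ≫ c := by
        rw [← Spec.map_comp, ← CommRingCat.ofHom_comp, ← IsScalarTower.algebraMap_eq]
      exact (congrArg (· ≫ v) hcπ).trans (Category.assoc _ _ _)
  choose V v hv hy hsec using key
  refine ⟨Presieve.ofArrows V v, (Scheme.ofArrows_mem_precoverage_iff _).2 ⟨fun y => ⟨y, hy y⟩, hv⟩, ?_⟩
  rintro _ _ ⟨y⟩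
  exact hsec y

end Groth.Agent.CechTorsorX.ZariskiTriv
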